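import Cfsg.Agent.Lib.CoOneLocals.Rows

/-! The automorphism group of the lattice modulo negation: equality of images, centralisers. -/

set_option autoImplicit false

noncomputable section

namespace CfsgLib.CoOneLocals

open Cfsg CfsgLib.Golay CfsgLib.MonsterType CfsgLib.Sporadic.CoOne

/-- The image in the quotient. -/
def bar : Co0 →* Spor.Co1 := QuotientGroup.mk' _

theorem bar_surjective : Function.Surjective bar := QuotientGroup.mk'_surjective _

theorem bar_eq_one {g : Co0} : bar g = 1 ↔ g = 1 ∨ g = negW := by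
  refine (QuotientGroup.eq_one_iff g).trans ⟨center_cases, ?_⟩
  rintro (rfl | rfl)
  exacts [one_mem _, negW_mem_center]

theorem negW_comm (g : Co0) : negW * g = g * negW := (Subgroup.mem_center_iff.mp negW_mem_center g).symm

theorem negW_sq : negW * negW = 1 :=
  ext_latE fun j => by rw [mul_smul, negW_smul, negW_smul, neg_neg, one_smul]

theorem bar_negW : bar negW = 1 := bar_eq_one.mpr (Or.inr rfl)

theorem bar_eq_bar {g h : Co0} : bar g = bar h ↔ g = h ∨ g = negW * h := by
  rw [← mul_inv_eq_one, ← map_inv, ← map_mul, bar_eq_one, mul_inv_eq_one, mul_inv_eq_iff_eq_mul]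

theorem negW_ne_one : negW ≠ 1 := by
  intro e
  have h := congrArg (fun g : Co0 => ((g • LeechEight.latE none : leechLattice) : GolayPt → ℤ) none) e
  simp only [negW_smul, one_smul, AddSubgroup.coe_neg, Pi.neg_apply, latE_apply, if_true] at h
  norm_num at h

theorem eq_of_pow_odd {g h : Co0} {n : ℕ} (hn : Odd n) (hg : g ^ n = 1) (hh : h ^ n = 1)
    (e : bar g = bar h) : g = h := by
  refine (bar_eq_bar.mp e).resolve_right fun e' => negW_ne_one ?_
  rw [e', Commute.mul_pow (show Commute negW h from negW_comm h), hh, mul_one] at hg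
  obtain ⟨k, rfl⟩ := hn
  rwa [pow_succ, pow_mul, pow_two, negW_sq, one_pow, one_mul] at hg

theorem bar_comm_iff {g h : Co0} {n : ℕ} (hn : Odd n) (hh : h ^ n = 1) :
    bar g * bar h = bar h * bar g ↔ g * h = h * g := by
  refine ⟨fun e => ?_, fun e => by rw [← map_mul, ← map_mul, e]⟩
  have h1 : (g * h * g⁻¹) ^ n = 1 := by rw [conj_pow, hh, mul_one, mul_inv_cancel]
  exact mul_inv_eq_iff_eq_mul.mp
    (eq_of_pow_odd hn h1 hh (by rw [map_mul, map_mul, e, map_inv, mul_inv_cancel_right]))

/-- The centraliser of an image of odd order is the image of the centraliser. -/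
theorem map_centralizer {h : Co0} {n : ℕ} (hn : Odd n) (hh : h ^ n = 1) :
    (Subgroup.centralizer ({h} : Set Co0)).map bar = Subgroup.centralizer ({bar h} : Set Spor.Co1) := by
  refine le_antisymm ?_ fun a ha => ?_
  · rintro _ ⟨g, hg, rfl⟩
    exact Subgroup.mem_centralizer_singleton_iff.mpr
      ((bar_comm_iff hn hh).mpr (Subgroup.mem_centralizer_singleton_iff.mp hg))
  · obtain ⟨g, rfl⟩ := bar_surjective a
    exact ⟨g, Subgroup.mem_centralizer_singleton_iff.mpr
      ((bar_comm_iff hn hh).mp (Subgroup.mem_centralizer_singleton_iff.mp ha)), rfl⟩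

/-- The centraliser modulo negation has half the order. -/
theorem two_mul_card_centralizer {h : Co0} {n : ℕ} (hn : Odd n) (hh : h ^ n = 1) :
    2 * Nat.card ↥(Subgroup.centralizer ({bar h} : Set Spor.Co1)) ≤
      Nat.card ↥(Subgroup.centralizer ({h} : Set Co0)) := by
  classical
  have := co0_finite
  rw [← map_centralizer hn hh]
  set C := Subgroup.centralizer ({h} : Set Co0)
  have hsurj : ∀ a : ↥(C.map bar), ∃ g : C, bar g = a := fun a => by
    obtain ⟨g, hg, e⟩ := a.2
    exact ⟨⟨g, hg⟩, e⟩
  choose f hf using hsurj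
  have hneg : negW ∈ C := Subgroup.mem_centralizer_singleton_iff.mpr (negW_comm h)
  rw [show 2 = Nat.card Bool by simp, ← Nat.card_prod]
  refine Nat.card_le_card_of_injective
    (fun p : Bool × ↥(C.map bar) => (if p.1 then ⟨negW, hneg⟩ else 1) * f p.2) ?_
  rintro ⟨a, u⟩ ⟨b, v⟩ e
  have hb : ∀ c : Bool, bar (((if c then ⟨negW, hneg⟩ else 1) : C) : Co0) = 1 := fun c => by
    cases c
    · exact map_one bar
    · exact bar_negW
  have e1 := congrArg (fun c : C => bar (c : Co0)) e
  simp only [Subgroup.coe_mul, map_mul, hb, one_mul, hf] at e1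
  obtain rfl := Subtype.ext e1
  have e2 := congrArg (fun c : C => (c : Co0)) (mul_right_cancel e)
  cases a <;> cases b
  · rfl
  · exact absurd (show (1 : Co0) = negW from e2).symm negW_ne_one
  · exact absurd (show negW = (1 : Co0) from e2) negW_ne_one
  · rfl

end CfsgLib.CoOneLocals
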