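import Cfsg.Agent.Lib.CoOneLocals.Elem
import Cfsg.Agent.Lib.MonsterType.Held.Lattice
import Cfsg.Agent.Lib.MonsterType.HeldNorm.Inverter

/-! The relations among the tabled elements. -/

set_option autoImplicit false
set_option maxRecDepth 100000
set_option Elab.async false

noncomputable section

namespace CfsgLib.CoOneLocals

open Cfsg CfsgLib.Golay CfsgLib.MonsterType
open CfsgLib.MonsterLocal21.Thompson (tau sigM)

theorem rT : Rows tEl rowsT := rows_of_rowsAut test_T

theorem rDa : Rows daEl rowsDa := rows_of_rowsAut test_Da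

theorem rDb : Rows dbEl rowsDb := rows_of_rowsAut test_Db

theorem rX : Rows xEl rowsX := rows_of_rowsAut test_X

theorem rGam : Rows gamEl rowsGam := rows_of_rowsAut test_Gam

theorem rX1 : Rows x1El rowsX1 := rows_of_rowsAut test_X1

theorem rX1b : Rows x1bEl rowsX1b := rows_of_rowsAut test_X1b

theorem rH : Rows hEl rowsH := rows_of_rowsAut test_H

theorem rXp : Rows xpEl rowsXp := rows_of_rowsAut test_Xp

theorem rInv : Rows HeldNorm.inv7 Held.baseW2 := rows_of_rowsAut Held.test_baseW2

theorem rTau : Rows tau rowsTau := rows_perm (by decide +kernel)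

theorem rSev : Rows Held.sevW rowsSev := rows_perm (by decide +kernel)

theorem rTauSq : Rows (tau * tau) rowsTauSq := rTau.mul rTau (by decide +kernel) (by decide +kernel)

theorem t_tau : tEl * tau = tau * tau * tEl := rT.mul_ext rTau rTauSq rT (by decide +kernel)

theorem t_sq : tEl * tEl = 1 :=
  (rT.mul_ext rT rows_one rows_one (by decide +kernel)).trans (one_mul 1)

theorem da_tau : daEl * tau = tau * daEl := rDa.mul_ext rTau rTau rDa (by decide +kernel)

theorem db_tau : dbEl * tau = tau * dbEl := rDb.mul_ext rTau rTau rDb (by decide +kernel)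

theorem da_t : daEl * tEl = tEl * daEl := rDa.mul_ext rT rT rDa (by decide +kernel)

theorem db_t : dbEl * tEl = tEl * dbEl := rDb.mul_ext rT rT rDb (by decide +kernel)

theorem da_x : daEl * xEl = xEl * daEl := rDa.mul_ext rX rX rDa (by decide +kernel)

theorem db_x : dbEl * xEl = xEl * dbEl := rDb.mul_ext rX rX rDb (by decide +kernel)

theorem rX2 : Rows (xEl * xEl) rowsX2 := rX.mul rX (by decide +kernel) (by decide +kernel)

theorem rX4 : Rows (xEl * xEl * (xEl * xEl)) rowsX4 := rX2.mul rX2 (by decide +kernel) (by decide +kernel)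

theorem rX6 : Rows (xEl * xEl * (xEl * xEl) * (xEl * xEl)) rowsXi :=
  rX4.mul rX2 (by decide +kernel) (by decide +kernel)

theorem x_pow_seven : xEl ^ 7 = 1 := by
  have h := (rX.mul_ext rX6 rows_one rows_one (by decide +kernel)).trans (one_mul 1)
  refine Eq.trans ?_ h
  simp only [pow_succ, pow_zero, one_mul, mul_assoc]

theorem gam_x : gamEl * xEl = x1El * gamEl := rGam.mul_ext rX rX1 rGam (by decide +kernel)

theorem gam_db : gamEl * dbEl = Held.sevW * gamEl := rGam.mul_ext rDb rSev rGam (by decide +kernel)

theorem x1b_inv : x1bEl * HeldNorm.inv7 = HeldNorm.inv7 * x1El :=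
  rX1b.mul_ext rInv rInv rX1 (by decide +kernel)

theorem h_x : hEl * xEl = xpEl * hEl := rH.mul_ext rX rXp rH (by decide +kernel)

/-- An absolute value of an entry of a product differs. -/
def absDiff (R S T U : List (List ℤ)) : Bool :=
  (List.finRange 24).any fun i => (List.finRange 24).any fun j =>
    decide ((entP R S i j).natAbs ≠ (entP T U i j).natAbs)

theorem x_tau_diff : absDiff rowsX rowsTau rowsTau rowsX = true := by decide +kernel

theorem x_one_diff : absDiff rowsX rowsOne rowsOne rowsOne = true := by decide +kernel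

end CfsgLib.CoOneLocals
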