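import Mathlib

/-! Tables for the centralisers of an element of order 3 and of an element of order 7 in the
automorphism group of the lattice: automorphisms as rows, their actions on fixed classes, short
vectors separating the stabiliser of a minimal vector. Generated. -/

set_option autoImplicit false
set_option maxRecDepth 20000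

namespace CfsgLib.CoOneLocals

/-- Rows of the identity. -/
def rowsOne : List (List ℤ) := [
  [8,0,0,0,0,0,0,0,0,0,0,0,0,0,0,0,0,0,0,0,0,0,0,0],
  [0,8,0,0,0,0,0,0,0,0,0,0,0,0,0,0,0,0,0,0,0,0,0,0],
  [0,0,8,0,0,0,0,0,0,0,0,0,0,0,0,0,0,0,0,0,0,0,0,0],
  [0,0,0,8,0,0,0,0,0,0,0,0,0,0,0,0,0,0,0,0,0,0,0,0],
  [0,0,0,0,8,0,0,0,0,0,0,0,0,0,0,0,0,0,0,0,0,0,0,0],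
  [0,0,0,0,0,8,0,0,0,0,0,0,0,0,0,0,0,0,0,0,0,0,0,0],
  [0,0,0,0,0,0,8,0,0,0,0,0,0,0,0,0,0,0,0,0,0,0,0,0],
  [0,0,0,0,0,0,0,8,0,0,0,0,0,0,0,0,0,0,0,0,0,0,0,0],
  [0,0,0,0,0,0,0,0,8,0,0,0,0,0,0,0,0,0,0,0,0,0,0,0],
  [0,0,0,0,0,0,0,0,0,8,0,0,0,0,0,0,0,0,0,0,0,0,0,0],
  [0,0,0,0,0,0,0,0,0,0,8,0,0,0,0,0,0,0,0,0,0,0,0,0],
  [0,0,0,0,0,0,0,0,0,0,0,8,0,0,0,0,0,0,0,0,0,0,0,0],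
  [0,0,0,0,0,0,0,0,0,0,0,0,8,0,0,0,0,0,0,0,0,0,0,0],
  [0,0,0,0,0,0,0,0,0,0,0,0,0,8,0,0,0,0,0,0,0,0,0,0],
  [0,0,0,0,0,0,0,0,0,0,0,0,0,0,8,0,0,0,0,0,0,0,0,0],
  [0,0,0,0,0,0,0,0,0,0,0,0,0,0,0,8,0,0,0,0,0,0,0,0],
  [0,0,0,0,0,0,0,0,0,0,0,0,0,0,0,0,8,0,0,0,0,0,0,0],
  [0,0,0,0,0,0,0,0,0,0,0,0,0,0,0,0,0,8,0,0,0,0,0,0],
  [0,0,0,0,0,0,0,0,0,0,0,0,0,0,0,0,0,0,8,0,0,0,0,0],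
  [0,0,0,0,0,0,0,0,0,0,0,0,0,0,0,0,0,0,0,8,0,0,0,0],
  [0,0,0,0,0,0,0,0,0,0,0,0,0,0,0,0,0,0,0,0,8,0,0,0],
  [0,0,0,0,0,0,0,0,0,0,0,0,0,0,0,0,0,0,0,0,0,8,0,0],
  [0,0,0,0,0,0,0,0,0,0,0,0,0,0,0,0,0,0,0,0,0,0,8,0],
  [0,0,0,0,0,0,0,0,0,0,0,0,0,0,0,0,0,0,0,0,0,0,0,8]]

/-- Rows of the permutation of order 3. -/
def rowsTau : List (List ℤ) := [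
  [0,0,0,0,0,0,0,0,0,0,0,0,0,0,0,0,0,0,0,0,0,0,0,8],
  [8,0,0,0,0,0,0,0,0,0,0,0,0,0,0,0,0,0,0,0,0,0,0,0],
  [0,0,0,0,8,0,0,0,0,0,0,0,0,0,0,0,0,0,0,0,0,0,0,0],
  [0,0,8,0,0,0,0,0,0,0,0,0,0,0,0,0,0,0,0,0,0,0,0,0],
  [0,0,0,8,0,0,0,0,0,0,0,0,0,0,0,0,0,0,0,0,0,0,0,0],
  [0,0,0,0,0,0,0,0,0,0,0,0,0,0,0,0,8,0,0,0,0,0,0,0],
  [0,0,0,0,0,0,0,0,0,0,0,0,8,0,0,0,0,0,0,0,0,0,0,0],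
  [0,0,0,0,0,0,0,0,0,8,0,0,0,0,0,0,0,0,0,0,0,0,0,0],
  [0,0,0,0,0,0,0,0,0,0,0,0,0,0,0,0,0,0,8,0,0,0,0,0],
  [0,0,0,0,0,0,0,0,0,0,0,0,0,0,0,8,0,0,0,0,0,0,0,0],
  [0,0,0,0,0,0,0,0,8,0,0,0,0,0,0,0,0,0,0,0,0,0,0,0],
  [0,0,0,0,0,0,0,0,0,0,0,0,0,0,8,0,0,0,0,0,0,0,0,0],
  [0,0,0,0,0,0,0,0,0,0,0,0,0,0,0,0,0,0,0,0,0,8,0,0],
  [0,0,0,0,0,0,0,0,0,0,0,8,0,0,0,0,0,0,0,0,0,0,0,0],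
  [0,0,0,0,0,0,0,0,0,0,0,0,0,8,0,0,0,0,0,0,0,0,0,0],
  [0,0,0,0,0,0,0,8,0,0,0,0,0,0,0,0,0,0,0,0,0,0,0,0],
  [0,0,0,0,0,0,0,0,0,0,0,0,0,0,0,0,0,0,0,0,8,0,0,0],
  [0,0,0,0,0,0,0,0,0,0,0,0,0,0,0,0,0,0,0,0,0,0,8,0],
  [0,0,0,0,0,0,0,0,0,0,8,0,0,0,0,0,0,0,0,0,0,0,0,0],
  [0,0,0,0,0,0,0,0,0,0,0,0,0,0,0,0,0,8,0,0,0,0,0,0],
  [0,0,0,0,0,8,0,0,0,0,0,0,0,0,0,0,0,0,0,0,0,0,0,0],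
  [0,0,0,0,0,0,8,0,0,0,0,0,0,0,0,0,0,0,0,0,0,0,0,0],
  [0,0,0,0,0,0,0,0,0,0,0,0,0,0,0,0,0,0,0,8,0,0,0,0],
  [0,8,0,0,0,0,0,0,0,0,0,0,0,0,0,0,0,0,0,0,0,0,0,0]]

/-- Rows of its square. -/
def rowsTauSq : List (List ℤ) := [
  [0,8,0,0,0,0,0,0,0,0,0,0,0,0,0,0,0,0,0,0,0,0,0,0],
  [0,0,0,0,0,0,0,0,0,0,0,0,0,0,0,0,0,0,0,0,0,0,0,8],
  [0,0,0,8,0,0,0,0,0,0,0,0,0,0,0,0,0,0,0,0,0,0,0,0],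
  [0,0,0,0,8,0,0,0,0,0,0,0,0,0,0,0,0,0,0,0,0,0,0,0],
  [0,0,8,0,0,0,0,0,0,0,0,0,0,0,0,0,0,0,0,0,0,0,0,0],
  [0,0,0,0,0,0,0,0,0,0,0,0,0,0,0,0,0,0,0,0,8,0,0,0],
  [0,0,0,0,0,0,0,0,0,0,0,0,0,0,0,0,0,0,0,0,0,8,0,0],
  [0,0,0,0,0,0,0,0,0,0,0,0,0,0,0,8,0,0,0,0,0,0,0,0],
  [0,0,0,0,0,0,0,0,0,0,8,0,0,0,0,0,0,0,0,0,0,0,0,0],
  [0,0,0,0,0,0,0,8,0,0,0,0,0,0,0,0,0,0,0,0,0,0,0,0],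
  [0,0,0,0,0,0,0,0,0,0,0,0,0,0,0,0,0,0,8,0,0,0,0,0],
  [0,0,0,0,0,0,0,0,0,0,0,0,0,8,0,0,0,0,0,0,0,0,0,0],
  [0,0,0,0,0,0,8,0,0,0,0,0,0,0,0,0,0,0,0,0,0,0,0,0],
  [0,0,0,0,0,0,0,0,0,0,0,0,0,0,8,0,0,0,0,0,0,0,0,0],
  [0,0,0,0,0,0,0,0,0,0,0,8,0,0,0,0,0,0,0,0,0,0,0,0],
  [0,0,0,0,0,0,0,0,0,8,0,0,0,0,0,0,0,0,0,0,0,0,0,0],
  [0,0,0,0,0,8,0,0,0,0,0,0,0,0,0,0,0,0,0,0,0,0,0,0],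
  [0,0,0,0,0,0,0,0,0,0,0,0,0,0,0,0,0,0,0,8,0,0,0,0],
  [0,0,0,0,0,0,0,0,8,0,0,0,0,0,0,0,0,0,0,0,0,0,0,0],
  [0,0,0,0,0,0,0,0,0,0,0,0,0,0,0,0,0,0,0,0,0,0,8,0],
  [0,0,0,0,0,0,0,0,0,0,0,0,0,0,0,0,8,0,0,0,0,0,0,0],
  [0,0,0,0,0,0,0,0,0,0,0,0,8,0,0,0,0,0,0,0,0,0,0,0],
  [0,0,0,0,0,0,0,0,0,0,0,0,0,0,0,0,0,8,0,0,0,0,0,0],
  [8,0,0,0,0,0,0,0,0,0,0,0,0,0,0,0,0,0,0,0,0,0,0,0]]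

/-- Rows of the permutation of order 7. -/
def rowsSev : List (List ℤ) := [
  [0,0,0,0,0,0,0,0,0,0,0,0,0,0,0,0,0,0,0,0,0,8,0,0],
  [0,0,0,0,0,0,0,0,0,0,0,0,8,0,0,0,0,0,0,0,0,0,0,0],
  [0,0,0,0,0,0,0,0,8,0,0,0,0,0,0,0,0,0,0,0,0,0,0,0],
  [0,0,0,0,0,0,0,0,0,0,0,0,0,0,0,8,0,0,0,0,0,0,0,0],
  [0,0,0,0,0,0,0,0,0,0,0,0,0,0,0,0,0,0,0,0,8,0,0,0],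
  [0,0,0,0,8,0,0,0,0,0,0,0,0,0,0,0,0,0,0,0,0,0,0,0],
  [0,0,0,0,0,0,0,0,0,0,0,0,0,0,0,0,0,0,0,8,0,0,0,0],
  [0,0,8,0,0,0,0,0,0,0,0,0,0,0,0,0,0,0,0,0,0,0,0,0],
  [0,0,0,0,0,8,0,0,0,0,0,0,0,0,0,0,0,0,0,0,0,0,0,0],
  [0,0,0,0,0,0,0,0,0,8,0,0,0,0,0,0,0,0,0,0,0,0,0,0],
  [0,0,0,0,0,0,0,8,0,0,0,0,0,0,0,0,0,0,0,0,0,0,0,0],
  [0,0,0,0,0,0,0,0,0,0,0,0,0,0,8,0,0,0,0,0,0,0,0,0],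
  [8,0,0,0,0,0,0,0,0,0,0,0,0,0,0,0,0,0,0,0,0,0,0,0],
  [0,0,0,0,0,0,0,0,0,0,0,0,0,8,0,0,0,0,0,0,0,0,0,0],
  [0,0,0,0,0,0,0,0,0,0,0,0,0,0,0,0,0,8,0,0,0,0,0,0],
  [0,8,0,0,0,0,0,0,0,0,0,0,0,0,0,0,0,0,0,0,0,0,0,0],
  [0,0,0,0,0,0,0,0,0,0,0,8,0,0,0,0,0,0,0,0,0,0,0,0],
  [0,0,0,0,0,0,0,0,0,0,0,0,0,0,0,0,0,0,8,0,0,0,0,0],
  [0,0,0,0,0,0,8,0,0,0,0,0,0,0,0,0,0,0,0,0,0,0,0,0],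
  [0,0,0,0,0,0,0,0,0,0,0,0,0,0,0,0,8,0,0,0,0,0,0,0],
  [0,0,0,0,0,0,0,0,0,0,8,0,0,0,0,0,0,0,0,0,0,0,0,0],
  [0,0,0,0,0,0,0,0,0,0,0,0,0,0,0,0,0,0,0,0,0,0,8,0],
  [0,0,0,8,0,0,0,0,0,0,0,0,0,0,0,0,0,0,0,0,0,0,0,0],
  [0,0,0,0,0,0,0,0,0,0,0,0,0,0,0,0,0,0,0,0,0,0,0,8]]

/-- An involution inverting the element of order 3. -/
def rowsT : List (List ℤ) := [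
  [0,8,0,0,0,0,0,0,0,0,0,0,0,0,0,0,0,0,0,0,0,0,0,0],
  [8,0,0,0,0,0,0,0,0,0,0,0,0,0,0,0,0,0,0,0,0,0,0,0],
  [0,0,8,0,0,0,0,0,0,0,0,0,0,0,0,0,0,0,0,0,0,0,0,0],
  [0,0,0,0,8,0,0,0,0,0,0,0,0,0,0,0,0,0,0,0,0,0,0,0],
  [0,0,0,8,0,0,0,0,0,0,0,0,0,0,0,0,0,0,0,0,0,0,0,0],
  [0,0,0,0,0,0,0,0,0,0,0,0,0,0,0,0,8,0,0,0,0,0,0,0],
  [0,0,0,0,0,0,0,0,0,0,0,0,0,0,0,0,0,0,0,0,0,8,0,0],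
  [0,0,0,0,0,0,0,8,0,0,0,0,0,0,0,0,0,0,0,0,0,0,0,0],
  [0,0,0,0,0,0,0,0,0,0,0,0,0,0,0,0,0,0,8,0,0,0,0,0],
  [0,0,0,0,0,0,0,0,0,0,0,0,0,0,0,8,0,0,0,0,0,0,0,0],
  [0,0,0,0,0,0,0,0,0,0,8,0,0,0,0,0,0,0,0,0,0,0,0,0],
  [0,0,0,0,0,0,0,0,0,0,0,8,0,0,0,0,0,0,0,0,0,0,0,0],
  [0,0,0,0,0,0,0,0,0,0,0,0,8,0,0,0,0,0,0,0,0,0,0,0],
  [0,0,0,0,0,0,0,0,0,0,0,0,0,0,8,0,0,0,0,0,0,0,0,0],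
  [0,0,0,0,0,0,0,0,0,0,0,0,0,8,0,0,0,0,0,0,0,0,0,0],
  [0,0,0,0,0,0,0,0,0,8,0,0,0,0,0,0,0,0,0,0,0,0,0,0],
  [0,0,0,0,0,8,0,0,0,0,0,0,0,0,0,0,0,0,0,0,0,0,0,0],
  [0,0,0,0,0,0,0,0,0,0,0,0,0,0,0,0,0,0,0,0,0,0,8,0],
  [0,0,0,0,0,0,0,0,8,0,0,0,0,0,0,0,0,0,0,0,0,0,0,0],
  [0,0,0,0,0,0,0,0,0,0,0,0,0,0,0,0,0,0,0,8,0,0,0,0],
  [0,0,0,0,0,0,0,0,0,0,0,0,0,0,0,0,0,0,0,0,8,0,0,0],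
  [0,0,0,0,0,0,8,0,0,0,0,0,0,0,0,0,0,0,0,0,0,0,0,0],
  [0,0,0,0,0,0,0,0,0,0,0,0,0,0,0,0,0,8,0,0,0,0,0,0],
  [0,0,0,0,0,0,0,0,0,0,0,0,0,0,0,0,0,0,0,0,0,0,0,8]]

/-- An element acting as a 3-cycle on the blocks. -/
def rowsDa : List (List ℤ) := [
  [-4,0,0,0,0,0,-2,-2,0,-2,0,-2,2,2,-2,-2,0,2,0,2,0,2,-2,0],
  [0,-4,0,0,0,0,2,-2,0,-2,0,-2,2,-2,2,-2,0,-2,0,2,0,-2,2,0],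
  [0,0,-4,0,0,0,-2,-2,0,2,0,-2,2,-2,-2,2,0,2,0,-2,0,-2,2,0],
  [0,0,0,-4,0,0,2,2,0,2,0,-2,-2,-2,-2,-2,0,2,0,2,0,-2,-2,0],
  [0,0,0,0,-4,0,-2,2,0,-2,0,-2,-2,-2,-2,2,0,-2,0,2,0,2,2,0],
  [0,0,0,0,0,-4,2,2,0,-2,0,2,2,2,-2,2,0,2,0,2,0,-2,2,0],
  [2,-2,2,-2,2,-2,-4,0,2,0,2,0,0,0,0,0,2,0,2,0,-2,0,0,-2],
  [2,2,2,-2,-2,-2,0,-4,2,0,-2,0,0,0,0,0,-2,0,2,0,2,0,0,2],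
  [0,0,0,0,0,0,-2,-2,-4,2,0,2,-2,2,-2,-2,0,-2,0,2,0,-2,2,0],
  [2,2,-2,-2,2,2,0,0,-2,-4,2,0,0,0,0,0,-2,0,2,0,-2,0,0,2],
  [0,0,0,0,0,0,-2,2,0,-2,-4,-2,-2,2,2,-2,0,2,0,-2,0,-2,2,0],
  [2,2,2,2,2,-2,0,0,-2,0,2,-4,0,0,0,0,-2,0,-2,0,2,0,0,-2],
  [-2,-2,-2,2,2,-2,0,0,2,0,2,0,-4,0,0,0,-2,0,2,0,2,0,0,2],
  [-2,2,2,2,2,-2,0,0,-2,0,-2,0,0,-4,0,0,2,0,2,0,-2,0,0,2],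
  [2,-2,2,2,2,2,0,0,2,0,-2,0,0,0,-4,0,-2,0,-2,0,-2,0,0,2],
  [2,2,-2,2,-2,-2,0,0,2,0,2,0,0,0,0,-4,2,0,-2,0,-2,0,0,2],
  [0,0,0,0,0,0,-2,2,0,2,0,2,2,-2,2,-2,-4,2,0,2,0,2,2,0],
  [-2,2,-2,-2,2,-2,0,0,2,0,-2,0,0,0,0,0,-2,-4,-2,0,-2,0,0,-2],
  [0,0,0,0,0,0,-2,-2,0,-2,0,2,-2,-2,2,2,0,2,-4,2,0,-2,-2,0],
  [-2,-2,2,-2,-2,-2,0,0,-2,0,2,0,0,0,0,0,-2,0,-2,-4,-2,0,0,2],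
  [0,0,0,0,0,0,2,-2,0,2,0,-2,-2,2,2,2,0,2,0,2,-4,2,2,0],
  [-2,2,2,2,-2,2,0,0,2,0,2,0,0,0,0,0,-2,0,2,0,-2,-4,0,-2],
  [2,-2,-2,2,-2,-2,0,0,-2,0,-2,0,0,0,0,0,-2,0,2,0,-2,0,-4,-2],
  [0,0,0,0,0,0,2,-2,0,-2,0,2,-2,-2,-2,-2,0,2,0,-2,0,2,2,-4]]

/-- An element acting as a 7-cycle on the blocks. -/
def rowsDb : List (List ℤ) := [
  [1,1,1,1,1,1,1,1,1,1,1,1,1,1,1,1,1,-3,1,-3,1,1,5,1],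
  [1,1,1,1,1,1,1,1,1,1,1,1,1,1,1,1,1,5,1,-3,1,1,-3,1],
  [-1,-1,-1,-1,-1,3,-1,3,-1,-1,-1,3,3,-1,-1,-1,3,-1,-1,-1,-1,-1,-1,-1],
  [-1,-1,-1,-1,-1,3,3,-1,-1,-1,-1,-1,-1,3,-1,3,-1,-1,-1,-1,3,-1,-1,-1],
  [-1,-1,-1,-1,-1,-1,-1,-1,-1,3,-1,-1,-1,-1,3,-1,3,-1,-1,-1,3,3,-1,-1],
  [-1,-1,3,3,-1,3,-1,-1,3,3,-1,-1,-1,-1,-1,-1,-1,-1,-1,-1,-1,-1,-1,-1],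
  [1,1,1,-3,1,1,1,1,1,1,1,1,-3,-3,1,1,1,1,-3,1,1,-3,1,1],
  [-1,-1,-1,-1,-1,-1,-1,-1,-1,3,3,-1,3,-1,-1,3,-1,-1,-1,-1,-1,-1,-1,3],
  [1,-3,1,1,-3,1,1,1,1,-3,1,-3,1,-3,1,1,1,1,1,1,1,1,1,1],
  [-1,3,-1,-1,-1,-1,-1,3,3,-1,-1,-1,-1,-1,-1,3,-1,-1,-1,-1,-1,3,-1,-1],
  [1,1,-3,1,1,1,1,-3,1,1,1,1,1,-3,-3,1,1,1,1,1,1,1,1,-3],
  [-1,-1,-1,-1,-1,-1,-1,-1,3,-1,-1,3,-1,-1,-1,-1,-1,-1,3,-1,3,-1,-1,3],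
  [1,1,-3,1,1,1,-3,1,1,1,-3,-3,1,1,1,1,1,1,1,1,1,-3,1,1],
  [3,-1,-1,-1,-1,-1,-1,-1,3,-1,3,-1,-1,3,-1,-1,3,-1,-1,-1,-1,-1,-1,-1],
  [-1,3,-1,-1,-1,3,-1,-1,-1,-1,3,-1,-1,-1,3,-1,-1,-1,3,-1,-1,-1,-1,-1],
  [3,-1,-1,-1,-1,-1,3,3,-1,3,-1,-1,-1,-1,-1,-1,-1,-1,3,-1,-1,-1,-1,-1],
  [-1,-1,3,-1,3,-1,-1,-1,-1,-1,-1,-1,-1,-1,-1,3,3,-1,3,-1,-1,-1,-1,-1],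
  [-3,1,1,1,-3,-3,1,1,1,1,1,1,1,1,1,1,1,1,1,1,1,-3,1,-3],
  [-3,1,1,-3,1,1,1,1,1,1,1,-3,1,1,-3,-3,1,1,1,1,1,1,1,1],
  [-3,-3,-3,1,1,1,1,1,1,1,1,1,-3,1,1,1,1,1,1,1,-3,1,1,1],
  [-1,-1,-1,3,3,-1,-1,3,-1,-1,3,-1,-1,-1,-1,-1,-1,-1,-1,-1,3,-1,-1,-1],
  [1,1,1,1,-3,1,-3,1,-3,1,1,1,-3,1,-3,1,1,1,1,1,1,1,1,1],
  [1,-3,1,-3,1,1,-3,1,1,1,1,1,1,1,1,1,-3,1,1,1,1,1,1,-3],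
  [1,1,1,1,1,1,1,1,1,1,1,1,1,1,1,1,1,-3,1,5,1,1,-3,1]]

/-- An element of order 7 without fixed vectors commuting with both. -/
def rowsX : List (List ℤ) := [
  [-4,0,0,-2,-2,-2,0,0,0,2,-2,0,2,-2,-2,2,2,0,0,-2,0,0,0,2],
  [0,0,0,-2,2,2,0,0,0,-2,-2,0,2,-2,2,2,-2,0,0,-2,-4,0,0,-2],
  [0,0,0,2,-2,-2,0,0,0,2,-2,0,2,2,2,2,-2,0,0,2,0,4,0,-2],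
  [2,2,2,-4,0,0,-2,-2,2,0,0,-2,0,0,0,0,0,-2,2,0,2,2,-2,0],
  [2,-2,-2,0,0,0,2,-2,-2,0,0,-2,4,0,0,0,0,2,2,0,2,-2,-2,0],
  [2,-2,-2,0,0,0,-2,2,-2,0,0,-2,0,0,0,0,0,-2,2,0,-2,2,2,4],
  [0,0,0,2,-2,2,-4,0,0,-2,-2,0,2,-2,-2,-2,2,0,0,2,0,0,0,-2],
  [0,0,0,-2,-2,2,0,0,0,-2,-2,0,-2,2,2,2,2,4,0,2,0,0,0,2],
  [0,0,0,-2,2,2,0,0,0,2,-2,4,2,2,-2,-2,-2,0,0,2,0,0,0,2],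
  [-2,2,2,0,0,0,2,-2,-2,0,0,-2,0,0,0,0,0,-2,2,4,-2,-2,2,0],
  [-2,-2,2,0,0,0,-2,2,-2,0,0,2,0,0,4,0,0,-2,2,0,2,-2,-2,0],
  [0,0,0,-2,-2,-2,0,0,-4,-2,-2,0,-2,2,-2,-2,-2,0,0,-2,0,0,0,-2],
  [2,2,-2,0,-4,0,2,2,2,0,0,2,0,0,0,0,0,-2,2,0,-2,-2,-2,0],
  [2,2,2,0,0,0,2,2,-2,0,0,2,0,-4,0,0,0,2,2,0,2,2,2,0],
  [2,-2,2,0,0,0,2,2,2,0,-4,-2,0,0,0,0,0,-2,-2,0,2,-2,2,0],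
  [-2,-2,2,0,0,0,2,2,2,0,0,-2,0,0,0,-4,0,2,2,0,-2,2,-2,0],
  [-2,2,-2,0,0,0,-2,2,2,0,0,-2,0,0,0,0,-4,2,2,0,2,-2,2,0],
  [0,0,0,2,-2,2,0,-4,0,2,-2,0,-2,-2,2,-2,-2,0,0,-2,0,0,0,2],
  [0,0,0,-2,-2,-2,0,0,0,-2,2,0,2,-2,2,-2,-2,0,-4,2,0,0,0,2],
  [-2,-2,-2,0,0,0,2,-2,2,-4,0,2,0,0,0,0,0,-2,2,0,2,2,2,0],
  [0,4,0,2,2,-2,0,0,0,-2,-2,0,2,2,2,-2,2,0,0,-2,0,0,0,2],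
  [0,0,-4,-2,2,-2,0,0,0,2,-2,0,-2,-2,2,-2,2,0,0,2,0,0,0,-2],
  [0,0,0,2,2,-2,0,0,0,-2,-2,0,-2,-2,-2,2,-2,0,0,2,0,0,-4,2],
  [2,-2,2,0,0,-4,-2,-2,2,0,0,2,0,0,0,0,0,2,2,0,-2,-2,2,0]]

/-- Its inverse. -/
def rowsXi : List (List ℤ) := [
  [-4,0,0,2,2,2,0,0,0,-2,-2,0,2,2,2,-2,-2,0,0,-2,0,0,0,2],
  [0,0,0,2,-2,-2,0,0,0,2,-2,0,2,2,-2,-2,2,0,0,-2,4,0,0,-2],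
  [0,0,0,2,-2,-2,0,0,0,2,2,0,-2,2,2,2,-2,0,0,-2,0,-4,0,2],
  [-2,-2,2,-4,0,0,2,-2,-2,0,0,-2,0,0,0,0,0,2,-2,0,2,-2,2,0],
  [-2,2,-2,0,0,0,-2,-2,2,0,0,-2,-4,0,0,0,0,-2,-2,0,2,2,2,0],
  [-2,2,-2,0,0,0,2,2,2,0,0,-2,0,0,0,0,0,2,-2,0,-2,-2,-2,-4],
  [0,0,0,-2,2,-2,-4,0,0,2,-2,0,2,2,2,2,-2,0,0,2,0,0,0,-2],
  [0,0,0,-2,-2,2,0,0,0,-2,2,0,2,2,2,2,2,-4,0,-2,0,0,0,-2],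
  [0,0,0,2,-2,-2,0,0,0,-2,-2,-4,2,-2,2,2,2,0,0,2,0,0,0,2],
  [2,-2,2,0,0,0,-2,-2,2,0,0,-2,0,0,0,0,0,2,-2,-4,-2,2,-2,0],
  [-2,-2,-2,0,0,0,-2,-2,-2,0,0,-2,0,0,-4,0,0,-2,2,0,-2,-2,-2,0],
  [0,0,0,-2,-2,-2,0,0,4,-2,2,0,2,2,-2,-2,-2,0,0,2,0,0,0,2],
  [2,2,2,0,4,0,2,-2,2,0,0,-2,0,0,0,0,0,-2,2,0,2,-2,-2,0],
  [-2,-2,2,0,0,0,-2,2,2,0,0,2,0,-4,0,0,0,-2,-2,0,2,-2,-2,0],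
  [-2,2,2,0,0,0,-2,2,-2,0,4,-2,0,0,0,0,0,2,2,0,2,2,-2,0],
  [2,2,2,0,0,0,-2,2,-2,0,0,-2,0,0,0,-4,0,-2,-2,0,-2,-2,2,0],
  [2,-2,-2,0,0,0,2,2,-2,0,0,-2,0,0,0,0,-4,-2,-2,0,2,2,-2,0],
  [0,0,0,-2,2,-2,0,4,0,-2,-2,0,-2,2,-2,2,2,0,0,-2,0,0,0,2],
  [0,0,0,2,2,2,0,0,0,2,2,0,2,2,-2,2,2,0,-4,2,0,0,0,2],
  [-2,-2,2,0,0,0,2,2,2,4,0,-2,0,0,0,0,0,-2,2,0,-2,2,2,0],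
  [0,-4,0,2,2,-2,0,0,0,-2,2,0,-2,2,2,-2,2,0,0,2,0,0,0,-2],
  [0,0,4,2,-2,2,0,0,0,-2,-2,0,-2,2,-2,2,-2,0,0,2,0,0,0,-2],
  [0,0,0,-2,-2,2,0,0,0,2,-2,0,-2,2,2,-2,2,0,0,2,0,0,-4,2],
  [2,-2,-2,0,0,4,-2,2,2,0,0,-2,0,0,0,0,0,2,2,0,2,-2,2,0]]

/-- Its square. -/
def rowsX2 : List (List ℤ) := [
  [0,2,0,2,0,0,0,0,2,0,2,0,-2,2,0,-2,-2,2,0,2,-4,-2,0,-2],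
  [2,-4,-2,0,-2,2,2,2,0,2,0,-2,0,0,-2,0,0,0,-2,0,-2,0,-2,0],
  [0,2,0,-2,0,0,4,0,2,0,-2,0,-2,-2,0,-2,2,-2,0,2,0,2,0,-2],
  [-2,0,-2,0,2,-2,2,2,0,2,0,2,4,0,2,0,0,0,-2,0,-2,0,2,0],
  [0,2,0,2,-4,0,0,0,2,0,2,0,2,-2,0,-2,2,-2,0,-2,0,-2,0,2],
  [0,-2,0,-2,0,-4,0,0,2,0,2,0,-2,-2,0,2,2,2,0,2,0,-2,0,2],
  [0,2,-4,-2,0,0,0,0,2,0,2,0,-2,2,0,2,-2,-2,0,-2,0,2,0,2],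
  [0,-2,0,2,0,0,0,0,2,0,-2,0,-2,-2,0,-2,-2,2,0,-2,0,2,4,2],
  [2,0,-2,0,-2,-2,2,-2,-4,-2,0,2,0,0,-2,0,0,0,2,0,-2,0,2,0],
  [0,-2,0,2,0,0,0,0,2,-4,2,0,2,-2,0,2,-2,-2,0,2,0,2,0,-2],
  [2,0,2,0,-2,-2,2,2,0,-2,0,-2,0,4,2,0,0,0,-2,0,2,0,2,0],
  [0,2,0,2,0,0,0,0,-2,0,2,0,-2,-2,0,2,2,2,-4,-2,0,2,0,-2],
  [-2,0,2,-4,-2,2,-2,2,0,-2,0,2,0,0,-2,0,0,0,-2,0,-2,0,2,0],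
  [-2,0,-2,0,-2,-2,-2,-2,0,-2,-4,-2,0,0,2,0,0,0,-2,0,-2,0,-2,0],
  [0,2,0,2,0,0,0,0,2,0,-2,0,2,2,-4,2,2,2,0,2,0,2,0,2],
  [2,0,-2,0,-2,2,-2,-2,0,2,0,2,0,0,2,0,0,0,-2,4,2,0,2,0],
  [2,0,2,0,2,2,2,-2,0,-2,0,2,0,0,2,0,0,0,-2,0,-2,0,-2,4],
  [2,0,2,0,2,-2,-2,-2,0,2,0,-2,0,0,-2,0,0,-4,-2,0,-2,0,2,0],
  [0,-2,0,2,0,0,0,0,2,0,-2,4,-2,2,0,2,2,-2,0,-2,0,-2,0,-2],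
  [2,0,-2,0,2,-2,-2,2,0,-2,0,2,0,0,-2,-4,0,0,-2,0,2,0,-2,0],
  [4,2,0,-2,0,0,0,0,2,0,-2,0,2,-2,0,2,-2,2,0,-2,0,-2,0,-2],
  [-2,0,-2,0,2,2,2,-2,0,-2,0,-2,0,0,-2,0,0,0,-2,0,2,-4,2,0],
  [0,-2,0,-2,0,0,0,-4,2,0,2,0,2,2,0,-2,2,2,0,-2,0,2,0,-2],
  [-2,0,2,0,-2,-2,2,-2,0,2,0,2,0,0,-2,0,-4,0,-2,0,2,0,-2,0]]

/-- Its fourth power. -/
def rowsX4 : List (List ℤ) := [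
  [0,-2,-2,2,0,-4,0,2,-2,0,0,-2,0,2,0,-2,2,-2,0,0,-2,2,0,0],
  [-2,0,0,0,2,-2,-2,0,0,-2,2,0,-2,0,2,0,-4,0,2,2,0,0,2,2],
  [2,0,-4,0,2,2,2,0,0,-2,2,0,-2,0,-2,0,0,0,2,-2,0,0,-2,2],
  [-2,0,0,0,-2,2,-2,0,0,-2,2,0,2,0,-2,0,0,0,-2,-2,0,4,2,2],
  [0,-2,2,-2,0,0,4,2,-2,0,0,2,0,2,0,2,-2,2,0,0,-2,2,0,0],
  [4,2,2,2,0,0,0,-2,-2,0,0,2,0,2,0,-2,-2,-2,0,0,2,2,0,0],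
  [0,-2,-2,2,-4,0,0,-2,-2,0,0,-2,0,2,0,2,-2,2,0,0,2,-2,0,0],
  [-2,0,0,0,2,-2,2,-4,0,2,2,0,2,0,-2,0,0,0,2,-2,0,0,2,-2],
  [-2,0,0,0,2,2,-2,0,0,2,2,0,-2,4,2,0,0,0,-2,-2,0,0,-2,-2],
  [0,2,-2,-2,0,0,0,2,-2,0,0,2,0,2,0,-2,2,2,0,0,2,-2,4,0],
  [0,2,-2,-2,0,0,0,-2,2,0,-4,-2,0,2,0,-2,-2,2,0,0,-2,2,0,0],
  [2,0,0,0,2,2,2,0,0,2,2,-4,2,0,2,0,0,0,-2,2,0,0,2,2],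
  [0,-2,2,-2,0,0,0,-2,-2,0,0,-2,-4,-2,0,-2,2,2,0,0,2,2,0,0],
  [-2,0,0,0,2,2,-2,0,-4,2,-2,0,2,0,-2,0,0,0,2,2,0,0,-2,2],
  [0,-2,-2,-2,0,0,0,-2,-2,0,0,2,0,-2,0,-2,-2,-2,-4,0,-2,-2,0,0],
  [2,0,0,0,2,-2,-2,0,0,-2,2,0,2,0,-2,0,0,4,-2,2,0,0,-2,-2],
  [-2,4,0,0,-2,-2,2,0,0,2,2,0,-2,0,-2,0,0,0,-2,2,0,0,-2,2],
  [-2,0,0,0,-2,2,2,0,0,-2,2,0,2,0,2,-4,0,0,2,2,0,0,-2,-2],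
  [0,2,-2,2,0,0,0,-2,-2,0,0,2,0,-2,4,2,2,2,0,0,-2,2,0,0],
  [0,2,2,2,0,0,0,2,-2,0,0,-2,0,-2,0,-2,-2,2,0,-4,-2,-2,0,0],
  [2,0,0,0,-2,2,-2,0,0,2,2,0,-2,0,-2,0,0,0,2,2,-4,0,2,-2],
  [2,0,0,-4,-2,-2,-2,0,0,2,2,0,2,0,2,0,0,0,2,-2,0,0,-2,2],
  [0,2,2,-2,0,0,0,-2,-2,-4,0,-2,0,2,0,2,2,-2,0,0,-2,-2,0,0],
  [0,2,-2,-2,0,0,0,2,-2,0,0,-2,0,-2,0,2,-2,-2,0,0,2,2,0,-4]]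

/-- An element moving the 7-cycle to the permutation of order 7. -/
def rowsGam : List (List ℤ) := [
  [0,0,2,2,0,0,2,0,0,0,2,-2,2,-2,0,0,0,-4,2,0,0,-4,0,0],
  [0,4,2,2,0,0,2,0,4,0,-2,2,2,2,0,0,0,0,-2,0,0,0,0,0],
  [0,0,-2,-2,0,0,2,0,0,4,2,2,2,2,4,0,0,0,2,0,0,0,0,0],
  [-2,2,0,0,-2,2,0,2,-2,-2,0,0,0,0,2,2,-2,-2,0,-2,-2,2,-2,-2],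
  [-2,2,0,0,-2,2,0,2,-2,2,0,0,0,0,-2,2,2,2,0,2,2,-2,2,-2],
  [0,0,2,2,0,0,2,0,0,0,2,-2,2,-2,0,0,0,4,2,0,0,4,0,0],
  [0,0,2,-2,0,0,2,-4,0,0,-2,2,-2,-2,0,4,0,0,2,0,0,0,0,0],
  [2,2,0,0,2,-2,0,2,-2,-2,0,0,0,0,2,2,-2,2,0,2,-2,-2,2,2],
  [0,4,-2,-2,0,0,-2,0,4,0,2,-2,-2,-2,0,0,0,0,2,0,0,0,0,0],
  [-2,-2,0,0,-2,2,0,-2,2,-2,0,0,0,0,2,-2,-2,2,0,2,-2,-2,2,-2],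
  [0,0,-2,-2,-4,-4,2,0,0,0,-2,-2,2,-2,0,0,0,0,-2,0,0,0,0,0],
  [0,0,-2,2,0,0,-2,0,0,0,-2,2,2,-2,0,0,0,0,2,4,0,0,-4,0],
  [2,-2,0,0,-2,2,0,2,2,-2,0,0,0,0,2,2,2,2,0,-2,2,-2,-2,2],
  [0,0,-2,2,0,0,2,0,0,0,2,2,-2,-2,0,0,-4,0,-2,0,4,0,0,0],
  [-4,0,-2,2,0,0,2,0,0,0,-2,-2,-2,2,0,0,0,0,2,0,0,0,0,4],
  [2,2,0,0,-2,2,0,-2,-2,2,0,0,0,0,-2,-2,-2,2,0,-2,-2,-2,-2,2],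
  [-4,0,2,-2,0,0,-2,0,0,0,2,2,2,-2,0,0,0,0,-2,0,0,0,0,4],
  [0,0,2,-2,0,0,2,0,0,0,2,-2,-2,2,0,0,0,0,-2,4,0,0,-4,0],
  [0,0,-2,2,0,0,2,0,0,0,2,2,-2,-2,0,0,4,0,-2,0,-4,0,0,0],
  [0,0,2,-2,0,0,2,4,0,0,-2,2,-2,-2,0,-4,0,0,2,0,0,0,0,0],
  [-2,-2,0,0,2,-2,0,2,2,2,0,0,0,0,-2,2,-2,2,0,-2,-2,-2,-2,-2],
  [0,0,-2,-2,4,4,2,0,0,0,-2,-2,2,-2,0,0,0,0,-2,0,0,0,0,0],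
  [0,0,2,2,0,0,-2,0,0,4,-2,-2,-2,-2,4,0,0,0,-2,0,0,0,0,0],
  [2,-2,0,0,-2,2,0,2,2,2,0,0,0,0,-2,2,-2,-2,0,2,-2,2,2,2]]

/-- The transported element. -/
def rowsX1 : List (List ℤ) := [
  [2,2,0,2,0,0,-2,0,0,0,0,2,2,-2,-2,-2,2,2,-2,-2,0,-2,-2,2],
  [-2,2,0,2,0,0,2,0,0,0,0,2,-2,-2,-2,2,-2,-2,-2,2,0,2,-2,2],
  [4,0,-2,0,2,-2,0,2,-2,2,2,0,0,0,0,0,0,0,0,4,-2,0,0,0],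
  [-2,-2,0,2,0,0,-2,0,0,0,0,-2,2,-2,-2,-2,-2,2,2,2,0,2,2,2],
  [0,0,-2,4,-2,2,0,2,2,2,-2,0,0,0,4,0,0,0,0,0,-2,0,0,0],
  [0,0,2,0,-2,-2,0,-2,2,2,2,4,0,0,0,0,0,0,0,0,-2,0,4,0],
  [0,0,-2,0,-2,2,-4,-2,-2,2,2,0,-4,0,0,0,0,0,0,0,2,0,0,0],
  [0,0,-2,0,-2,2,4,-2,-2,2,2,0,4,0,0,0,0,0,0,0,2,0,0,0],
  [0,0,2,0,-2,-2,0,2,-2,2,-2,0,0,0,0,0,4,0,0,0,2,4,0,0],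
  [0,0,-2,0,-2,-2,0,-2,-2,-2,-2,0,0,4,0,0,0,0,0,0,-2,0,0,4],
  [0,4,-2,0,2,-2,0,-2,2,2,-2,0,0,0,0,0,0,0,4,0,2,0,0,0],
  [0,0,2,0,-2,-2,0,-2,2,2,2,-4,0,0,0,0,0,0,0,0,-2,0,-4,0],
  [-2,2,0,-2,0,0,-2,0,0,0,0,-2,2,-2,2,2,2,-2,-2,2,0,-2,2,2],
  [0,0,-2,0,-2,-2,0,-2,-2,-2,-2,0,0,-4,0,0,0,0,0,0,-2,0,0,-4],
  [0,0,-2,-4,-2,2,0,2,2,2,-2,0,0,0,-4,0,0,0,0,0,-2,0,0,0],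
  [2,-2,0,2,0,0,2,0,0,0,0,-2,-2,-2,-2,2,2,-2,2,-2,0,-2,2,2],
  [0,0,2,0,-2,-2,0,2,-2,2,-2,0,0,0,0,0,-4,0,0,0,2,-4,0,0],
  [0,0,2,0,2,2,0,-2,-2,2,-2,0,0,0,0,-4,0,-4,0,0,-2,0,0,0],
  [0,-4,-2,0,2,-2,0,-2,2,2,-2,0,0,0,0,0,0,0,-4,0,2,0,0,0],
  [-4,0,-2,0,2,-2,0,2,-2,2,2,0,0,0,0,0,0,0,0,-4,-2,0,0,0],
  [0,0,2,0,2,2,0,-2,-2,2,-2,0,0,0,0,4,0,4,0,0,-2,0,0,0],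
  [2,-2,0,-2,0,0,-2,0,0,0,0,2,2,-2,2,2,-2,-2,2,-2,0,2,-2,2],
  [2,2,0,-2,0,0,2,0,0,0,0,-2,-2,-2,2,-2,-2,2,-2,-2,0,2,2,2],
  [-2,-2,0,-2,0,0,2,0,0,0,0,2,-2,-2,2,-2,2,2,2,2,0,-2,-2,2]]

/-- Its image under the inverter. -/
def rowsX1b : List (List ℤ) := [
  [2,-2,4,-2,0,0,0,0,0,0,0,0,-2,0,0,2,0,0,0,-4,0,2,2,-2],
  [2,2,0,-2,0,0,0,0,0,0,4,0,2,0,0,-2,0,0,-4,0,0,-2,2,-2],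
  [0,0,-2,0,-2,2,-2,-2,2,-2,-2,2,0,-2,-2,0,2,2,-2,-2,2,0,0,0],
  [2,2,0,2,4,0,0,0,0,0,0,0,-2,0,-4,2,0,0,0,0,0,-2,-2,-2],
  [0,0,2,0,-2,-2,-2,-2,-2,-2,2,-2,0,-2,-2,0,-2,2,2,2,2,0,0,0],
  [0,0,-2,0,2,-2,2,2,-2,-2,-2,-2,0,-2,2,0,-2,2,-2,-2,2,0,0,0],
  [-2,2,0,-2,0,0,-4,4,0,0,0,0,-2,0,0,2,0,0,0,0,0,-2,2,2],
  [0,0,2,0,2,-2,-2,-2,2,-2,-2,-2,0,-2,2,0,2,-2,-2,2,-2,0,0,0],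
  [0,0,-2,0,2,2,-2,-2,-2,-2,2,2,0,-2,2,0,-2,-2,2,-2,-2,0,0,0],
  [0,0,2,0,2,2,2,2,2,-2,2,2,0,-2,2,0,2,2,2,2,2,0,0,0],
  [0,0,2,0,-2,2,2,2,-2,-2,-2,2,0,-2,-2,0,-2,-2,-2,2,-2,0,0,0],
  [2,2,0,-2,0,4,0,0,0,0,0,-4,-2,0,0,-2,0,0,0,0,0,2,-2,2],
  [2,-2,0,2,0,0,-4,4,0,0,0,0,2,0,0,-2,0,0,0,0,0,2,-2,-2],
  [-2,-2,0,-2,0,0,0,0,0,4,0,0,-2,-4,0,-2,0,0,0,0,0,-2,-2,-2],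
  [-2,-2,0,-2,4,0,0,0,0,0,0,0,2,0,-4,-2,0,0,0,0,0,2,2,2],
  [-2,2,0,-2,0,0,0,0,0,0,0,0,2,0,0,2,0,-4,0,0,4,2,-2,-2],
  [2,-2,0,-2,0,0,0,0,4,0,0,0,2,0,0,2,-4,0,0,0,0,-2,-2,2],
  [2,-2,0,2,0,0,0,0,0,0,0,0,-2,0,0,-2,0,-4,0,0,4,-2,2,2],
  [-2,-2,0,2,0,0,0,0,0,0,4,0,-2,0,0,2,0,0,-4,0,0,2,-2,2],
  [-2,2,4,2,0,0,0,0,0,0,0,0,2,0,0,-2,0,0,0,-4,0,-2,-2,2],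
  [0,0,-2,0,-2,-2,2,2,2,-2,2,-2,0,-2,-2,0,2,-2,2,-2,-2,0,0,0],
  [-2,2,0,2,0,0,0,0,4,0,0,0,-2,0,0,-2,-4,0,0,0,0,2,2,-2],
  [-2,-2,0,2,0,4,0,0,0,0,0,-4,2,0,0,2,0,0,0,0,0,-2,2,-2],
  [2,2,0,2,0,0,0,0,0,4,0,0,2,-4,0,2,0,0,0,0,0,2,2,2]]

/-- An element moving a sum of two minimal vectors to the standard one. -/
def rowsH : List (List ℤ) := [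
  [-1,-3,-3,-1,3,1,-1,-1,-1,-3,1,1,1,-1,-1,-1,-1,1,-1,-1,-1,-1,-1,3],
  [-1,-3,1,-1,-1,1,-1,-1,-1,1,-3,1,-3,-1,-1,-1,3,1,3,-1,-1,-1,-1,-1],
  [-3,-1,-1,1,1,3,1,1,1,-1,-1,-1,-1,1,1,1,1,-1,-3,-3,1,1,1,-3],
  [1,-1,-1,1,1,-1,1,1,-3,-1,-1,-1,3,1,1,-3,1,-1,1,1,1,1,-3,-3],
  [1,-1,-1,-3,1,-1,1,1,1,-1,-1,-1,-1,1,1,1,-3,3,1,1,-3,1,1,-3],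
  [-1,1,1,-1,3,-3,3,-1,3,1,1,1,1,-1,-1,-1,3,1,-1,-1,-1,-1,-1,-1],
  [1,-1,-1,-3,-3,-1,1,1,1,-1,-1,-1,3,-3,1,1,1,-1,1,-3,1,1,1,1],
  [-1,1,1,-1,-1,1,-1,-1,3,-3,-3,1,1,-1,-1,-1,-1,-3,-1,3,-1,-1,-1,-1],
  [-1,1,1,-1,-1,-3,-1,-1,-1,-3,1,1,-3,-1,-1,-1,-1,1,-1,-1,3,3,-1,-1],
  [-1,1,1,-1,3,1,-1,-1,-1,1,1,1,1,-1,-1,-1,-1,-3,3,-1,-1,3,3,-1],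
  [-1,1,-3,3,-1,-3,-1,-1,-1,1,-3,1,1,-1,-1,-1,-1,1,-1,-1,-1,-1,3,-1],
  [1,-1,-1,1,1,-1,1,5,1,-1,-1,3,-1,1,-3,1,1,-1,1,1,1,1,1,1],
  [-3,-1,-1,1,-3,-1,1,1,1,-1,3,-1,-1,1,1,-3,1,-1,1,1,-3,1,1,1],
  [-1,1,-3,-1,-1,1,-1,-1,3,1,1,1,1,3,-1,-1,-1,1,3,-1,3,-1,-1,-1],
  [1,-1,-1,1,1,-1,-3,1,1,-1,3,-1,-1,-3,1,1,1,-1,1,1,1,-3,1,-3],
  [1,-1,-1,-3,1,-1,-3,1,1,3,-1,-1,-1,1,1,-3,1,-1,-3,1,1,1,1,1],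
  [-1,1,1,-1,-1,1,-1,3,-1,1,1,-3,1,-1,-5,-1,-1,1,-1,-1,-1,-1,-1,-1],
  [-3,-1,-1,1,1,-1,1,1,1,3,-1,-1,-1,-3,1,1,-3,-1,1,1,1,1,-3,1],
  [1,-1,-1,1,1,-1,1,-3,1,-1,-1,-5,-1,1,-3,1,1,-1,1,1,1,1,1,1],
  [1,3,-1,1,1,3,1,1,1,-1,-1,-1,-1,-3,1,-3,1,3,1,1,1,1,1,1],
  [3,1,-3,-1,-1,1,3,-1,-1,1,1,1,-3,-1,-1,-1,-1,-3,-1,-1,-1,-1,-1,-1],
  [-3,3,-1,-3,1,-1,1,1,-3,-1,-1,-1,-1,1,1,1,1,-1,1,1,1,-3,1,1],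
  [-1,-3,1,-1,-1,1,3,-1,-1,1,1,1,1,-1,-1,-1,-1,1,-1,3,3,-1,3,-1],
  [-1,1,-3,-1,-1,1,-1,-1,-1,1,1,1,1,-1,-1,3,3,1,-1,3,-1,3,-1,-1]]

/-- The transported element. -/
def rowsXp : List (List ℤ) := [
  [2,2,-2,0,-2,0,0,-4,0,-2,0,0,0,2,2,0,0,-2,0,-2,2,-2,0,-2],
  [0,-4,0,-2,0,-2,-2,-2,2,0,2,-2,2,0,0,2,2,0,2,0,0,0,2,0],
  [0,0,0,2,0,-2,-2,-2,-2,0,-2,2,-2,0,0,2,2,0,2,4,0,0,-2,0],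
  [-2,-2,2,0,-2,0,4,0,0,-2,0,0,0,2,2,0,0,-2,0,2,2,2,0,2],
  [2,2,2,0,-2,0,0,0,0,-2,0,0,0,-2,-2,0,0,2,0,2,2,-2,4,2],
  [0,0,0,2,0,-2,-2,2,-2,0,2,-2,-2,4,0,-2,2,0,-2,0,0,0,2,0],
  [0,0,0,-2,0,2,-2,2,-2,-4,2,2,2,0,0,2,2,0,-2,0,0,0,-2,0],
  [2,-2,2,0,2,0,0,0,0,2,0,4,0,2,-2,0,0,-2,0,-2,2,-2,0,2],
  [0,0,4,2,0,2,-2,-2,2,0,2,-2,-2,0,0,2,-2,0,-2,0,0,0,-2,0],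
  [2,-2,-2,4,2,0,0,0,0,-2,0,0,0,-2,2,0,0,2,0,-2,2,2,0,2],
  [0,0,0,-2,0,2,-2,2,2,0,-2,-2,-2,0,0,-2,2,0,2,0,4,0,-2,0],
  [2,2,-2,0,2,0,0,0,4,-2,0,0,0,2,-2,0,0,-2,0,2,-2,2,0,2],
  [0,0,0,-2,0,-2,-2,2,2,0,-2,2,-2,0,4,2,-2,0,-2,0,0,0,2,0],
  [2,-2,-2,0,-2,0,0,0,0,2,0,0,0,-2,-2,0,0,-2,-4,2,2,2,0,-2],
  [2,-2,2,0,-2,0,0,0,0,-2,-4,0,0,2,-2,0,0,2,0,-2,-2,2,0,-2],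
  [0,0,0,-2,0,2,-2,-2,-2,0,2,2,-2,0,0,-2,-2,0,2,0,0,4,2,0],
  [0,0,0,-2,0,-2,-2,-2,-2,0,-2,-2,2,0,0,-2,-2,0,-2,0,0,0,-2,4],
  [0,0,0,2,0,2,-2,2,-2,0,-2,-2,2,0,0,2,-2,-4,2,0,0,0,2,0],
  [2,-2,-2,0,-2,4,0,0,0,2,0,0,0,2,2,0,0,2,0,2,-2,-2,0,2],
  [4,0,0,-2,0,-2,2,2,-2,0,2,-2,-2,0,0,2,-2,0,2,0,0,0,-2,0],
  [2,2,2,0,-2,0,0,0,0,2,0,0,0,-2,2,0,4,-2,0,-2,-2,2,0,2],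
  [2,-2,2,0,2,0,0,0,0,-2,0,0,0,-2,2,-4,0,-2,0,2,-2,-2,0,-2],
  [0,0,0,2,-4,-2,-2,2,2,0,2,2,2,0,0,-2,-2,0,2,0,0,0,-2,0],
  [2,2,2,0,2,0,0,0,0,2,0,0,4,2,2,0,0,2,0,2,2,2,0,-2]]

/-- The action on the basis of the fixed lattice. -/
def matT : List (List ℤ) := [
  [120,192,192,192,192,192,192,240],
  [48,72,96,96,144,96,96,144],
  [48,96,72,96,96,96,144,144],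
  [48,96,96,72,96,144,96,144],
  [96,192,144,144,120,192,192,192],
  [96,144,144,192,192,120,192,192],
  [96,144,192,144,192,192,120,192],
  [192,288,288,288,240,240,240,264]]

/-- The action on the basis of the fixed lattice. -/
def matA : List (List ℤ) := [
  [-96,-144,-144,-144,-120,-120,-96,-96],
  [-48,-72,-72,-72,-72,-48,-48,-48],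
  [-72,-120,-120,-120,-120,-120,-120,-120],
  [-24,-48,-48,-48,-72,-72,-48,-72],
  [-48,-96,-72,-72,-48,-96,-72,-48],
  [-72,-96,-120,-120,-120,-72,-72,-48],
  [-48,-72,-96,-48,-72,-96,0,-48],
  [-96,-144,-144,-120,-72,-120,-48,-24]]

/-- The action on the basis of the fixed lattice. -/
def matB : List (List ℤ) := [
  [48,48,48,96,48,0,48,24],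
  [48,48,72,72,48,24,24,24],
  [48,72,72,96,96,72,96,120],
  [48,72,48,72,24,24,48,24],
  [72,120,72,120,48,72,120,96],
  [72,96,120,144,144,96,120,120],
  [72,72,96,96,48,24,0,0],
  [72,72,72,144,72,0,72,24]]

/-- Six images of the minimal vector. -/
def fixVecs : List (List ℤ) := [
  [-2,0,-2,0,0,0,0,0,0,0,-2,0,-2,-2,0,0,0,-2,0,0,0,-2,0,-2],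
  [1,-1,1,-1,-1,-1,-1,-1,-1,-1,1,-1,1,1,-1,-1,-1,1,-1,-1,-1,1,-1,-3],
  [1,1,-1,-1,-1,1,1,-1,1,-1,-1,-1,-1,1,3,1,1,-1,-1,1,-1,1,1,1],
  [2,0,0,2,0,0,0,-2,0,0,0,2,2,0,0,0,0,0,2,0,2,0,-2,0],
  [2,0,2,0,0,-2,0,2,0,2,0,0,-2,0,0,0,0,0,0,0,0,0,2,2],
  [-2,0,0,0,2,2,-2,2,0,0,0,0,2,0,0,0,0,0,0,2,2,0,0,0]]

/-- Three vectors told apart by the six. -/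
def selVecs : List (List ℤ) := [
  [0,0,0,0,0,0,-4,0,0,0,0,0,0,0,0,0,0,0,0,0,0,0,0,-4],
  [0,0,0,-2,0,-2,0,0,0,0,0,0,-2,0,-2,0,0,0,0,-2,-2,0,-2,-2],
  [0,0,-2,0,0,0,0,-2,0,0,0,0,0,-2,-2,0,0,-2,0,-2,0,0,-2,-2]]

/-- A basis of the rational space. -/
def basisVecs : List (List ℤ) := [
  [-2,0,-2,0,0,0,0,0,0,0,-2,0,-2,-2,0,0,0,-2,0,0,0,-2,0,-2],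
  [1,-1,1,-1,-1,-1,-1,-1,-1,-1,1,-1,1,1,-1,-1,-1,1,-1,-1,-1,1,-1,-3],
  [1,1,-1,-1,-1,1,1,-1,1,-1,-1,-1,-1,1,3,1,1,-1,-1,1,-1,1,1,1],
  [2,0,0,2,0,0,0,-2,0,0,0,2,2,0,0,0,0,0,2,0,2,0,-2,0],
  [2,0,2,0,0,-2,0,2,0,2,0,0,-2,0,0,0,0,0,0,0,0,0,2,2],
  [-2,0,0,0,2,2,-2,2,0,0,0,0,2,0,0,0,0,0,0,2,2,0,0,0],
  [0,0,0,0,0,0,-4,0,0,0,0,0,0,0,0,0,0,0,0,0,0,0,0,-4],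
  [1,1,1,-3,-1,1,1,-1,1,-1,1,-1,1,1,1,1,-1,1,-1,-1,-1,1,1,1],
  [1,1,-3,1,1,-1,1,-1,1,-1,-1,1,1,-1,1,1,1,-1,1,1,1,-1,-1,1],
  [2,0,2,0,0,-2,0,0,-2,2,0,2,0,0,-2,-2,0,0,0,0,0,0,0,0],
  [-1,-1,1,-1,1,1,-1,3,-1,-1,-1,-1,-1,1,1,1,1,-1,-1,1,1,1,1,1],
  [-2,0,0,2,0,2,2,0,0,0,2,0,2,0,0,0,0,2,0,0,0,0,-2,0],
  [0,0,0,-2,0,-2,0,0,0,0,0,0,-2,0,-2,0,0,0,0,-2,-2,0,-2,-2],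
  [0,0,0,-2,-2,0,0,0,0,-2,0,0,0,0,2,0,0,-2,-2,2,0,0,0,-2],
  [2,0,0,2,0,0,2,-2,0,-2,0,0,2,2,0,0,0,0,0,0,0,2,0,0],
  [2,0,0,2,0,0,0,0,0,2,-2,2,-2,0,2,0,0,0,0,0,0,0,0,2],
  [0,-2,2,0,0,0,-2,2,0,2,0,0,2,0,0,0,0,0,2,0,2,0,0,0],
  [-2,2,0,0,0,0,0,2,0,0,2,-2,0,0,0,0,0,2,0,0,0,0,2,2],
  [0,0,-2,0,0,0,0,-2,0,0,0,0,0,-2,-2,0,0,-2,0,-2,0,0,-2,-2],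
  [2,0,0,-2,-2,-2,0,0,0,0,0,0,-2,2,0,0,0,0,-2,0,0,0,0,-2],
  [2,0,0,0,0,2,0,0,0,-2,0,0,2,2,2,0,0,-2,0,2,0,0,0,0],
  [2,0,0,2,0,0,2,0,0,0,0,2,0,0,0,0,0,2,2,0,0,2,0,2],
  [-1,-1,1,1,1,-1,-1,1,-1,3,-1,1,-1,-1,1,1,-1,-1,1,1,1,-1,1,1],
  [-2,0,2,0,0,0,-2,2,0,0,0,-2,2,0,-2,0,0,2,0,0,0,0,0,0]]

/-- Seven times the coordinates of the standard vectors. -/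
def basisCoef : List (List ℤ) := [
  [6,12,4,3,16,1,2,4,6,1,3,5,-8,-9,-10,-4,-5,-6,5,3,8,6,-3,2],
  [12,-4,8,13,4,9,4,8,-2,9,-1,3,12,3,8,6,-3,16,3,-1,2,-2,1,4],
  [6,-2,4,17,16,1,2,4,-8,1,3,5,6,5,4,-4,-5,-6,-9,-11,-6,-8,-3,2],
  [-2,-4,-6,-1,4,-5,4,-6,-2,-5,-1,3,-2,3,8,6,-3,2,3,-1,2,-2,1,4],
  [6,12,4,3,16,15,2,4,6,1,3,5,6,-9,4,-4,-5,-6,-9,-11,-6,-8,-3,-12],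
  [6,-2,4,3,2,1,2,4,-8,1,3,5,-8,-9,-10,-4,-5,-6,5,3,8,6,-3,2],
  [16,4,6,1,10,5,-4,6,2,5,1,11,2,-3,6,-6,3,-2,-3,1,-2,2,-1,-4],
  [6,-2,-10,-11,2,1,2,4,6,1,3,5,6,5,4,10,9,8,5,3,8,6,-3,2],
  [-6,-12,-4,-3,12,13,-2,-4,-6,-15,-17,-5,8,9,10,4,5,-8,-5,-3,-8,-6,-11,-2],
  [0,0,14,-7,0,7,0,0,0,7,-7,7,0,-7,0,0,7,0,7,7,0,0,7,0],
  [-16,-4,-6,-1,4,-5,4,-6,-2,-5,-1,3,-2,3,-6,-8,-3,2,3,-1,2,-2,1,-10],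
  [-12,-24,-22,-13,-18,-9,10,6,2,5,1,-3,2,11,6,8,3,-2,-3,1,-2,2,-1,-4],
  [-2,-4,-6,-15,-10,-5,4,8,12,9,-1,3,-2,3,8,6,11,2,3,-1,2,-2,1,4],
  [-6,-12,-4,-3,-16,-1,-2,-4,-6,-1,-3,-5,8,-5,10,4,5,6,-5,11,6,-6,3,-2],
  [6,12,4,3,2,1,2,4,6,1,3,5,6,5,4,10,9,8,-9,-11,-6,-8,-3,-12],
  [-6,-12,-4,-3,-2,-15,12,10,8,-1,11,9,-6,-5,-4,-10,-9,-8,9,11,6,8,17,12],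
  [-6,-12,10,-3,-2,-15,12,-4,8,13,11,9,-6,-5,-4,-10,5,-8,-5,-3,-8,-6,-11,-2],
  [6,12,4,3,2,1,2,4,6,1,3,5,-8,-9,-10,-4,-5,-6,-9,3,-6,6,-3,2],
  [8,2,10,11,-2,-1,-2,-4,-6,-1,-3,-5,8,-5,-4,-10,5,6,-5,-3,6,8,3,-2],
  [-4,6,16,5,8,11,-6,-12,-4,-3,-9,-1,-4,-1,-12,-16,-13,-10,-1,5,4,10,9,8],
  [10,6,2,19,8,11,-6,2,-4,-3,5,-1,-4,-1,2,-2,1,4,-1,5,-10,-4,-5,-6],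
  [-6,2,10,-3,-2,13,-2,-4,-6,-1,-3,-5,8,9,10,4,5,6,9,-3,-8,8,3,-2],
  [2,-10,-8,-13,-4,-9,10,6,2,5,1,-3,-12,-3,6,-6,3,-2,-3,1,-2,2,-1,-4],
  [-16,-4,-6,-1,-10,-5,-10,-6,-2,-5,-1,-11,-2,3,-6,6,-3,2,3,-1,2,-2,1,4]]

/-- Words in two permutations giving the products of two transpositions with a common point. -/
def cycleWords : List (List ℕ) := [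
  [],
  [],
  [],
  [],
  [],
  [],
  [],
  [],
  [],
  [0],
  [0,1,1,1,0,1,1,0,1],
  [0,1,1,0,1,0,1,1,0,1],
  [0,1,1,0,1,1,1,0,1],
  [1,1,1,1,1,1,0,1],
  [],
  [0,0],
  [],
  [0,0,1,0,1,1,1,1,1,1],
  [0,0,1,0,1,1,1,0,1,1,0],
  [0,1,1,0,1,1,1,0,1,0,0],
  [1,1,1,1,1,1,0,1,0,0],
  [],
  [1,0,1,0,1,1,0,1,1],
  [1,1,1,0,1,1,0,1,0],
  [],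
  [0,1,1,0,0,1,1,0,1,1],
  [1,1,1,1,0,1,0,1,1,1,0,0],
  [1,1,1,1,0,0,1,1,1,1,0,0],
  [],
  [1,0,1,1,1,0,1,1],
  [0,1,0,1,1,1,0,1,1],
  [0,1,1,1,1,0,1,1],
  [],
  [1,1,1,1,0,1,0,0,1,1],
  [1,1,1,1,0,0,1,0,1,1],
  [],
  [1,0,1,1,0,1,0,1,1],
  [1,1,0,1,1,1,0,1,0],
  [0,1,1,1,0,1,0,1,1],
  [0,1,1,0,1,0,1,0,1,1],
  [],
  [1,1,1,1,1,0,1,1],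
  [],
  [1,0,1,1,0,1,1,1],
  [0,1,0,1,1,0,1,1,1],
  [0,1,1,1,0,1,1,1],
  [0,1,1,0,1,0,1,1,1],
  [0,1,1,0,1,1,1,1],
  [],
  [],
  [],
  [0,0],
  [1,0,1,0,1,1,0,1,1],
  [1,0,1,1,1,0,1,1],
  [1,0,1,1,0,1,0,1,1],
  [1,0,1,1,0,1,1,1],
  [],
  [],
  [],
  [],
  [],
  [],
  [],
  [0],
  [],
  [],
  [1,0,1,1,1,1,1,1],
  [1,0,1,1,1,0,1,1,0],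
  [1,0,1,1,0,1,0,1,1,0],
  [1,0,1,1,0,1,1,1,0],
  [0,1,1,1,0,1,1,0,1],
  [],
  [1,1,1,0,1,1,0,1],
  [],
  [1,0,0,1,0,1,1,1,1,1],
  [0,1,1,1,1,0,1,0,1,1,1,0],
  [1,1,1,1,0,0,1,1,1,0,1,0],
  [0,1,1,0,1,0,1,1,0,1],
  [],
  [1,1,0,1,0,1,1,0,1],
  [1,0,1,0,1,0,1,1,0,1],
  [],
  [1,0,1,1,0,0,1,1,0,1],
  [1,1,1,0,1,0,1,1,1,0,1,0],
  [0,1,1,0,1,1,1,0,1],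
  [],
  [1,1,0,1,1,1,0,1],
  [1,0,1,0,1,1,1,0,1],
  [1,0,1,1,1,1,0,1],
  [],
  [1,1,1,1,1,0,1,0,0,1],
  [1,1,1,1,1,1,0,1],
  [],
  [1,1,0,1,1,0,1,0,1],
  [1,0,1,0,1,1,0,1,0,1],
  [1,0,1,1,1,0,1,0,1],
  [1,0,1,1,0,1,0,1,0,1],
  [],
  [],
  [0],
  [],
  [1,1,1,0,1,1,0,1,0],
  [0,1,0,1,1,1,0,1,1],
  [1,1,0,1,1,1,0,1,0],
  [0,1,0,1,1,0,1,1,1],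
  [0,0],
  [],
  [],
  [1,1,1,0,1,1,0,1],
  [1,1,0,1,0,1,1,0,1],
  [1,1,0,1,1,1,0,1],
  [1,1,0,1,1,0,1,0,1],
  [],
  [],
  [],
  [],
  [],
  [],
  [],
  [0,0,1,0,1,1,1,1,1,1],
  [1,0,1,1,1,1,1,1],
  [],
  [],
  [1,1,0,1,1,1,1,1],
  [1,1,0,1,0,0,1,1,1,1],
  [1,1,1,1,0,0,1,1,1,0,0,1],
  [0,0,1,0,1,1,1,0,1,1,0],
  [1,0,1,1,1,0,1,1,0],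
  [],
  [1,1,1,1,0,1,1,0],
  [],
  [1,1,0,0,1,0,1,1,1,1],
  [1,1,1,0,1,0,1,1,1,0,0,1],
  [0,1,1,0,1,1,1,0,1,0,0],
  [1,0,1,1,0,1,0,1,1,0],
  [],
  [1,1,1,0,1,0,1,1,0],
  [1,1,0,1,0,1,0,1,1,0],
  [],
  [1,1,0,1,1,0,0,1,1,0],
  [1,1,1,1,1,1,0,1,0,0],
  [1,0,1,1,0,1,1,1,0],
  [],
  [1,1,1,0,1,1,1,0],
  [1,1,0,1,0,1,1,1,0],
  [1,1,0,1,1,1,1,0],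
  [],
  [],
  [0,1,1,1,0,1,1,0,1],
  [0,0,1,0,1,1,1,1,1,1],
  [],
  [0,1,1,1,1,0,1,1],
  [0,1,1,1,0,1,0,1,1],
  [0,1,1,1,0,1,1,1],
  [1,0,1,0,1,1,0,1,1],
  [],
  [1,0,1,1,1,1,1,1],
  [],
  [1,0,1,0,1,0,1,1,0,1],
  [1,0,1,0,1,1,1,0,1],
  [1,0,1,0,1,1,0,1,0,1],
  [1,1,1,0,1,1,0,1,0],
  [1,1,1,0,1,1,0,1],
  [],
  [],
  [1,1,1,1,0,1,1,0],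
  [1,1,1,0,1,0,1,1,0],
  [1,1,1,0,1,1,1,0],
  [],
  [],
  [],
  [],
  [],
  [],
  [],
  [0,1,1,0,0,1,1,0,1,1],
  [1,0,0,1,0,1,1,1,1,1],
  [1,1,0,1,1,1,1,1],
  [],
  [],
  [1,1,1,0,1,1,1,1],
  [1,1,1,0,1,0,0,1,1,1],
  [1,1,1,1,0,1,0,1,1,1,0,0],
  [0,1,1,1,1,0,1,0,1,1,1,0],
  [1,1,0,1,0,0,1,1,1,1],
  [],
  [1,1,1,0,0,1,1,1,1],
  [],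
  [1,1,1,0,0,1,0,1,1,1],
  [1,1,1,1,0,0,1,1,1,1,0,0],
  [1,1,1,1,0,0,1,1,1,0,1,0],
  [1,1,1,1,0,0,1,1,1,0,0,1],
  [],
  [1,1,0,0,1,1,0,0,1,1,1,0,0,1],
  [1,0,0,1,1,1,0,0,1,1,0,0,1,1],
  [],
  [],
  [0,1,1,0,1,0,1,1,0,1],
  [0,0,1,0,1,1,1,0,1,1,0],
  [0,1,1,0,0,1,1,0,1,1],
  [],
  [0,1,1,0,1,0,1,0,1,1],
  [0,1,1,0,1,0,1,1,1],
  [1,0,1,1,1,0,1,1],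
  [],
  [1,0,1,1,1,0,1,1,0],
  [1,0,0,1,0,1,1,1,1,1],
  [],
  [1,0,1,1,1,1,0,1],
  [1,0,1,1,1,0,1,0,1],
  [0,1,0,1,1,1,0,1,1],
  [1,1,0,1,0,1,1,0,1],
  [],
  [1,1,0,1,1,1,1,1],
  [],
  [1,1,0,1,0,1,0,1,1,0],
  [1,1,0,1,0,1,1,1,0],
  [0,1,1,1,1,0,1,1],
  [1,0,1,0,1,0,1,1,0,1],
  [1,1,1,1,0,1,1,0],
  [],
  [],
  [1,1,1,0,0,1,1,1,1],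
  [1,1,0,0,1,1,0,0,1,1,1,0,0,1],
  [],
  [],
  [],
  [],
  [],
  [],
  [],
  [1,1,1,1,0,1,0,0,1,1],
  [1,0,1,1,0,0,1,1,0,1],
  [1,1,0,0,1,0,1,1,1,1],
  [1,1,1,0,1,1,1,1],
  [],
  [],
  [1,1,1,1,0,1,1,1],
  [1,1,1,1,0,0,1,0,1,1],
  [1,1,1,0,1,0,1,1,1,0,1,0],
  [1,1,1,0,1,0,1,1,1,0,0,1],
  [1,1,1,0,1,0,0,1,1,1],
  [],
  [1,1,1,1,0,0,1,1,1],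
  [],
  [],
  [0,1,1,0,1,1,1,0,1],
  [0,1,1,0,1,1,1,0,1,0,0],
  [1,1,1,1,0,1,0,1,1,1,0,0],
  [1,1,1,1,0,1,0,0,1,1],
  [],
  [0,1,1,0,1,1,1,1],
  [1,0,1,1,0,1,0,1,1],
  [],
  [1,0,1,1,0,1,0,1,1,0],
  [0,1,1,1,1,0,1,0,1,1,1,0],
  [1,0,1,1,0,0,1,1,0,1],
  [],
  [1,0,1,1,0,1,0,1,0,1],
  [1,1,0,1,1,1,0,1,0],
  [1,1,0,1,1,1,0,1],
  [],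
  [1,1,0,1,0,0,1,1,1,1],
  [1,1,0,0,1,0,1,1,1,1],
  [],
  [1,1,0,1,1,1,1,0],
  [0,1,1,1,0,1,0,1,1],
  [1,0,1,0,1,1,1,0,1],
  [1,1,1,0,1,0,1,1,0],
  [],
  [1,1,1,0,1,1,1,1],
  [],
  [1,0,0,1,1,1,0,0,1,1,0,0,1,1],
  [0,1,1,0,1,0,1,0,1,1],
  [1,0,1,1,1,1,0,1],
  [1,1,0,1,0,1,0,1,1,0],
  [1,1,1,0,0,1,1,1,1],
  [],
  [],
  [1,1,1,1,0,0,1,1,1],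
  [],
  [],
  [],
  [],
  [],
  [],
  [],
  [1,1,1,1,1,0,1,1],
  [1,1,1,1,1,0,1,0,0,1],
  [1,1,0,1,1,0,0,1,1,0],
  [1,1,1,0,0,1,0,1,1,1],
  [1,1,1,1,0,1,1,1],
  [],
  [],
  [],
  [1,1,1,1,1,1,0,1],
  [1,1,1,1,1,1,0,1,0,0],
  [1,1,1,1,0,0,1,1,1,1,0,0],
  [1,1,1,1,0,0,1,0,1,1],
  [1,1,1,1,1,0,1,1],
  [],
  [1,0,1,1,0,1,1,1],
  [],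
  [1,0,1,1,0,1,1,1,0],
  [1,1,1,1,0,0,1,1,1,0,1,0],
  [1,1,1,0,1,0,1,1,1,0,1,0],
  [1,1,1,1,1,0,1,0,0,1],
  [],
  [0,1,0,1,1,0,1,1,1],
  [1,1,0,1,1,0,1,0,1],
  [],
  [1,1,1,1,0,0,1,1,1,0,0,1],
  [1,1,1,0,1,0,1,1,1,0,0,1],
  [1,1,0,1,1,0,0,1,1,0],
  [],
  [0,1,1,1,0,1,1,1],
  [1,0,1,0,1,1,0,1,0,1],
  [1,1,1,0,1,1,1,0],
  [],
  [1,1,1,0,1,0,0,1,1,1],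
  [1,1,1,0,0,1,0,1,1,1],
  [],
  [0,1,1,0,1,0,1,1,1],
  [1,0,1,1,1,0,1,0,1],
  [1,1,0,1,0,1,1,1,0],
  [1,1,0,0,1,1,0,0,1,1,1,0,0,1],
  [],
  [1,1,1,1,0,1,1,1],
  [],
  [0,1,1,0,1,1,1,1],
  [1,0,1,1,0,1,0,1,0,1],
  [1,1,0,1,1,1,1,0],
  [1,0,0,1,1,1,0,0,1,1,0,0,1,1],
  [1,1,1,1,0,0,1,1,1],
  [],
  [],
  [],
  [],
  [],
  [],
  [],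
  [],
  []]

end CfsgLib.CoOneLocals
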