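import Cfsg.Agent.Lib.CoOneLocals.Rows
import Cfsg.Agent.Lib.MonsterLocal21.ThompsonLattice

/-! The elements of the lattice automorphism group given by the tables. -/

set_option autoImplicit false
set_option maxRecDepth 100000
set_option Elab.async false

noncomputable section

namespace CfsgLib.CoOneLocals

open Cfsg CfsgLib.Golay CfsgLib.MonsterType CfsgLib.Sporadic.CoOne

theorem test_T : frameTest rowsT = true := by decide +kernel

theorem test_Da : frameTest rowsDa = true := by decide +kernel

theorem test_Db : frameTest rowsDb = true := by decide +kernel

theorem test_X : frameTest rowsX = true := by decide +kernel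

theorem test_Gam : frameTest rowsGam = true := by decide +kernel

theorem test_X1 : frameTest rowsX1 = true := by decide +kernel

theorem test_X1b : frameTest rowsX1b = true := by decide +kernel

theorem test_H : frameTest rowsH = true := by decide +kernel

theorem test_Xp : frameTest rowsXp = true := by decide +kernel

/-- The inverter of the element of order three. -/
def tEl : Co0 := rowsAut test_T

/-- The lift of a 3-cycle. -/
def daEl : Co0 := rowsAut test_Da

/-- The lift of a 7-cycle. -/
def dbEl : Co0 := rowsAut test_Db

/-- The element of order seven without fixed vectors. -/
def xEl : Co0 := rowsAut test_X

/-- The element moving the 7-cycle to a permutation. -/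
def gamEl : Co0 := rowsAut test_Gam

/-- The transported element. -/
def x1El : Co0 := rowsAut test_X1

/-- Its image under the inverter. -/
def x1bEl : Co0 := rowsAut test_X1b

/-- The element moving a sum of two minimal vectors. -/
def hEl : Co0 := rowsAut test_H

/-- The element transported by it. -/
def xpEl : Co0 := rowsAut test_Xp

end CfsgLib.CoOneLocals
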