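import Cfsg.Agent.Lib.CoOneLocals.Cert
import Cfsg.Agent.Lib.Golay.LeechOrbit.CertA
import Cfsg.Agent.Lib.Golay.LeechCount

/-! An automorphism commuting with the transported element of order seven is determined by the image of
one minimal vector: the centraliser has at most `196560` elements. -/

set_option autoImplicit false
set_option maxRecDepth 100000
set_option Elab.async false
set_option linter.style.haveILetI false

noncomputable section

namespace CfsgLib.CoOneLocals

open Cfsg CfsgLib.Golay CfsgLib.MonsterType CfsgLib.Sporadic CfsgLib.Sporadic.CoOne CfsgLib.Golay.LeechOrbit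

theorem rigid_mem : ∀ j : Fin 24, leechTest (vecL (basisVecs.getD j.val [])) = true := by decide +kernel

/-- A vector of the basis. -/
def rigidVec (j : Fin 24) : leechLattice :=
  ⟨vecL (basisVecs.getD j.val []), mem_of_leechTest (rigid_mem j)⟩

theorem rigid_chain : ∀ j : Fin 24, j.val % 6 ≠ 5 →
    imgOK rowsXp (basisVecs.getD j.val []) (basisVecs.getD (j.val + 1) []) = true := by decide +kernel

theorem xp_rigidVec {j : ℕ} (hj : j + 1 < 24) (h5 : j % 6 ≠ 5) :
    xpEl • rigidVec ⟨j, by omega⟩ = rigidVec ⟨j + 1, hj⟩ :=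
  rXp.smul_eq rfl rfl (rigid_chain ⟨j, by omega⟩ h5)

theorem rigid_sum : ∀ p : GolayPt,
    vecL (basisVecs.getD 0 []) p + vecL (basisVecs.getD 1 []) p = Spor.vecV p := by decide +kernel

theorem rigid_sum_vec : rigidVec 0 + rigidVec 1 = Spor.leechV := Subtype.ext (funext rigid_sum)

/-- The three separated vectors lie among the 552 and the others have other products with the first six. -/
def selOK (i : ℕ) : Bool :=
  (List.finRange 3).all fun k : Fin 3 =>
    forceN (C552.key i) fun key =>
      bif (List.finRange 6).all (fun t : Fin 6 =>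
          decide (dotL (toL (vecL (basisVecs.getD t.val []))) (digitsF 24 key) =
            dotL (toL (vecL (basisVecs.getD t.val []))) (toL (vecL (basisVecs.getD (6 + 6 * k.val) [])))))
      then key == keyOf (vecL (basisVecs.getD (6 + 6 * k.val) [])) else true

theorem sel_ok : allFrom 0 552 selOK = true := by decide +kernel

theorem sel_facts : ∀ k : Fin 3,
    dotL (toL (vecL (basisVecs.getD (6 + 6 * k.val) []))) (toL (vecL (basisVecs.getD (6 + 6 * k.val) []))) = 32 ∧
    dotL (toL Spor.vecV) (toL (vecL (basisVecs.getD (6 + 6 * k.val) []))) = 24 := by decide +kernel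

theorem rigid_zero_norm : dotL (toL (vecL (basisVecs.getD 0 []))) (toL (vecL (basisVecs.getD 0 []))) = 32 := by
  decide +kernel

theorem sel_mem (k : Fin 3) : rigidVec ⟨6 + 6 * k.val, by omega⟩ ∈ consSet cs552 := by
  obtain ⟨h1, h2⟩ := sel_facts k
  refine ⟨by rw [sqNorm_eq_dotL]; exact h1, fun c hc => ?_⟩
  obtain rfl : c = (Spor.leechV, (24 : ℤ)) := List.mem_singleton.1 hc
  rw [dotInt_eq_dotL]
  exact h2

theorem sel_unique (k : Fin 3) {x : leechLattice} (hx : x ∈ consSet cs552)
    (h : ∀ t : Fin 6, dotInt (rigidVec ⟨t.val, by omega⟩ : GolayPt → ℤ) (x : GolayPt → ℤ) =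
      dotInt (rigidVec ⟨t.val, by omega⟩ : GolayPt → ℤ) (rigidVec ⟨6 + 6 * k.val, by omega⟩ : GolayPt → ℤ)) :
    x = rigidVec ⟨6 + 6 * k.val, by omega⟩ := by
  obtain ⟨i, hi, hik⟩ := C552.has_sound (cover552 x hx)
  have hc := of_allFrom_zero sel_ok (show i < 552 from hi)
  simp only [selOK, List.all_eq_true, List.mem_finRange, forall_true_left, forceN_eq] at hc
  have hk := hc k
  rw [digitsF_eq, hik] at hk
  have hall : (List.finRange 6).all (fun t : Fin 6 =>
      decide (dotL (toL (vecL (basisVecs.getD t.val []))) (digits 24 (keyOf (x : GolayPt → ℤ))) =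
        dotL (toL (vecL (basisVecs.getD t.val []))) (toL (vecL (basisVecs.getD (6 + 6 * k.val) []))))) = true := by
    simp only [List.all_eq_true, List.mem_finRange, forall_true_left, decide_eq_true_eq]
    intro t
    rw [← toL_vecK, vecK_keyOf hx.1, ← dotInt_eq_dotL, ← dotInt_eq_dotL]
    exact h t
  rw [hall] at hk
  simp only [cond_true, beq_iff_eq] at hk
  exact Subtype.ext (eq_of_keyOf hx.1 (sel_mem k).1 hk)

theorem rigid_coef : ∀ p q : GolayPt,
    (∑ k : Fin 24, ent basisCoef (idx p).val k.val * vecL (basisVecs.getD k.val []) q) =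
      if q = p then 56 else 0 := by decide +kernel

/-- An automorphism commuting with the transported element and fixing the first vector is trivial. -/
theorem rigid_eq_one {g : Co0} (hg : g * xpEl = xpEl * g) (h0 : g • rigidVec 0 = rigidVec 0) : g = 1 := by
  have hnext : ∀ (j : ℕ) (hj : j + 1 < 24), j % 6 ≠ 5 → g • rigidVec ⟨j, by omega⟩ = rigidVec ⟨j, by omega⟩ →
      g • rigidVec ⟨j + 1, hj⟩ = rigidVec ⟨j + 1, hj⟩ := by
    intro j hj h5 h
    rw [← xp_rigidVec hj h5, ← mul_smul, hg, mul_smul, h]
  have h6 : ∀ t : Fin 6, g • rigidVec ⟨t.val, by omega⟩ = rigidVec ⟨t.val, by omega⟩ := by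
    rintro ⟨t, ht⟩
    induction t with
    | zero => exact h0
    | succ t ih => exact hnext t (by omega) (by omega) (ih (by omega))
  have hV : g • Spor.leechV = Spor.leechV := by
    rw [← rigid_sum_vec]
    exact (map_add (LeechEight.addHom g) _ _).trans (congrArg₂ (· + ·) (h6 0) (h6 1))
  have hsel : ∀ k : Fin 3,
      g • rigidVec ⟨6 + 6 * k.val, by omega⟩ = rigidVec ⟨6 + 6 * k.val, by omega⟩ := by
    intro k
    refine sel_unique k (smul_mem_consSet ?_ (sel_mem k)) fun t => ?_
    · intro c hc
      obtain rfl : c = (Spor.leechV, (24 : ℤ)) := List.mem_singleton.1 hc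
      exact hV
    · have h := dot_smul_lat g (rigidVec ⟨t.val, by omega⟩) (rigidVec ⟨6 + 6 * k.val, by omega⟩)
      rwa [h6 t] at h
  have hall : ∀ j (hj : j < 24), g • rigidVec ⟨j, hj⟩ = rigidVec ⟨j, hj⟩ := by
    intro j
    induction j with
    | zero => exact fun _ => h0
    | succ j ih =>
      intro hj
      by_cases h5 : j % 6 = 5
      · have hk : j + 1 = 6 + 6 * (j / 6) := by omega
        have h := hsel ⟨j / 6, by omega⟩
        simp only [← hk] at h
        exact h
      · exact hnext j hj h5 (ih (by omega))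
  refine ext_latE fun p => ?_
  have hp : (∑ k : Fin 24, ent basisCoef (idx p).val k.val • rigidVec k) = (7 : ℤ) • LeechEight.latE p := by
    apply Subtype.ext
    funext q
    simp only [AddSubgroup.val_finsetSum, Finset.sum_apply, AddSubgroup.coe_zsmul, Pi.smul_apply, smul_eq_mul]
    refine (rigid_coef p q).trans ?_
    rw [latE_apply]
    split_ifs <;> norm_num
  have h7 : g • ((7 : ℤ) • LeechEight.latE p) = (7 : ℤ) • LeechEight.latE p := by
    rw [← hp]
    refine (map_sum (LeechEight.addHom g) _ _).trans (Finset.sum_congr rfl fun k _ => ?_)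
    exact (smul_zsmul' g _ _).trans (congrArg _ (hall k.val k.isLt))
  rw [smul_zsmul'] at h7
  rw [one_smul]
  refine Subtype.ext (funext fun q => mul_left_cancel₀ (show (7 : ℤ) ≠ 0 by norm_num) ?_)
  have := congrArg (fun v : leechLattice => (v : GolayPt → ℤ) q) h7
  simpa only [AddSubgroup.coe_zsmul, Pi.smul_apply, smul_eq_mul] using this

/-- The centraliser of the transported element. -/
theorem card_centralizer_xp_le : Nat.card ↥(Subgroup.centralizer ({xpEl} : Set Co0)) ≤ 196560 := by
  rw [← ncard_norm_32, ← Nat.card_coe_set_eq]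
  haveI : Finite {x : GolayPt → ℤ | x ∈ leechLattice ∧ sqNorm x = 32} :=
    (Set.finite_of_ncard_ne_zero (by rw [ncard_norm_32]; norm_num)).to_subtype
  refine Nat.card_le_card_of_injective (fun c : ↥(Subgroup.centralizer ({xpEl} : Set Co0)) =>
    (⟨(((c : Co0) • rigidVec 0 : leechLattice) : GolayPt → ℤ),
      ⟨Subtype.property _, by rw [sqNorm_smul_lat, sqNorm_eq_dotL]; exact rigid_zero_norm⟩⟩ :
      {x : GolayPt → ℤ | x ∈ leechLattice ∧ sqNorm x = 32})) fun a b h => ?_
  have h' : (a : Co0) • rigidVec 0 = (b : Co0) • rigidVec 0 := Subtype.ext (congrArg Subtype.val h :)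
  have h1 := rigid_eq_one (g := (b : Co0)⁻¹ * a)
    (Subgroup.mem_centralizer_singleton_iff.1 (mul_mem (inv_mem b.2) a.2))
    (by rw [mul_smul, h', inv_smul_smul])
  exact Subtype.ext (inv_mul_eq_one.1 h1).symm

/-- The centraliser of the element of order seven without fixed vectors has at most `196560` elements. -/
theorem card_centralizer_x_le : Nat.card ↥(Subgroup.centralizer ({xEl} : Set Co0)) ≤ 196560 := by
  have := co0_finite
  refine le_trans (Nat.card_le_card_of_injective
    (fun c : ↥(Subgroup.centralizer ({xEl} : Set Co0)) =>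
      (⟨hEl * c * hEl⁻¹, ?_⟩ : ↥(Subgroup.centralizer ({xpEl} : Set Co0)))) ?_) card_centralizer_xp_le
  · rw [Subgroup.mem_centralizer_singleton_iff,
      show xpEl = hEl * xEl * hEl⁻¹ from eq_mul_inv_of_mul_eq h_x.symm]
    have hc := Subgroup.mem_centralizer_singleton_iff.1 c.2
    calc hEl * c * hEl⁻¹ * (hEl * xEl * hEl⁻¹) = hEl * ((c : Co0) * xEl) * hEl⁻¹ := by group
      _ = hEl * (xEl * c) * hEl⁻¹ := by rw [hc]
      _ = _ := by group
  · intro a b e
    exact Subtype.ext (mul_left_cancel (mul_right_cancel (Subtype.mk.inj e)))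

end CfsgLib.CoOneLocals
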