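import Cfsg.Agent.Lib.CoOneLocals.Data
import Mathlib

/-! The alternating group of degree 7: two generators, and its embedding in degree 9. -/

set_option autoImplicit false
set_option maxRecDepth 100000

noncomputable section

namespace CfsgLib.CoOneLocals

/-- A 3-cycle of seven points. -/
def qA : alternatingGroup (Fin 7) :=
  ⟨Equiv.swap 0 1 * Equiv.swap 1 2, Equiv.Perm.mem_alternatingGroup.mpr (by decide +kernel)⟩

/-- A 7-cycle of seven points. -/
def qB : alternatingGroup (Fin 7) :=
  ⟨finRotate 7, Equiv.Perm.mem_alternatingGroup.mpr (by decide +kernel)⟩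

/-- The product of a word in the two. -/
def qWord (w : List ℕ) : alternatingGroup (Fin 7) := (w.map fun k => if k = 0 then qA else qB).prod

theorem qWord_table : ∀ i j k : Fin 7, i ≠ j → j ≠ k → i ≠ k →
    ((qWord (cycleWords.getD (49 * i.val + 7 * j.val + k.val) [])) : Equiv.Perm (Fin 7)) =
      Equiv.swap i j * Equiv.swap j k := by decide +kernel

theorem eq_top_of_qA_qB {S : Subgroup (alternatingGroup (Fin 7))} (hA : qA ∈ S) (hB : qB ∈ S) : S = ⊤ := by
  have hw : ∀ w, qWord w ∈ S := by
    intro w
    refine Subgroup.list_prod_mem S fun x hx => ?_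
    obtain ⟨k, -, rfl⟩ := List.mem_map.mp hx
    split_ifs <;> assumption
  rw [eq_top_iff, ← alternatingGroup.closure_isThreeCycles_eq_top, Subgroup.closure_le]
  intro g hg
  have hg' : (g : Equiv.Perm (Fin 7)).IsThreeCycle := hg
  obtain ⟨a, ha⟩ := hg'.isCycle.nonempty_support
  have hn := hg'.nodup_iff_mem_support.mpr ha
  simp only [List.nodup_cons, List.mem_cons, List.not_mem_nil, or_false, not_or, List.nodup_nil, and_true,
    not_false_eq_true] at hn
  have e := qWord_table _ _ _ hn.1.1 hn.2 hn.1.2
  rw [← hg'.eq_swap_mul_swap_iff_mem_support.mpr ha] at e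
  have := hw (cycleWords.getD (49 * a.val + 7 * ((g : Equiv.Perm (Fin 7)) a).val +
    ((g : Equiv.Perm (Fin 7)) ((g : Equiv.Perm (Fin 7)) a)).val) [])
  rwa [Subtype.ext e] at this

/-- The permutations fixing the last two of nine points. -/
def upHom : alternatingGroup (Fin 7) →* alternatingGroup (Fin 9) :=
  MonoidHom.mk' (fun g => ⟨(finSumFinEquiv (m := 7) (n := 2)).permCongr (Equiv.Perm.sumCongr (g : Equiv.Perm (Fin 7)) (1 : Equiv.Perm (Fin 2))), by
    rw [Equiv.Perm.mem_alternatingGroup, Equiv.Perm.sign_permCongr, Equiv.Perm.sign_sumCongr,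
      Equiv.Perm.mem_alternatingGroup.mp g.2, map_one, one_mul]⟩) fun g h => by
    apply Subtype.ext
    apply Equiv.ext
    intro i
    obtain ⟨x, rfl⟩ := (finSumFinEquiv (m := 7) (n := 2)).surjective i
    rcases x with x | x <;> simp [Equiv.permCongr_apply]

theorem upHom_injective : Function.Injective upHom := by
  intro g h e
  apply Subtype.ext
  apply Equiv.ext
  intro i
  have := congrArg (fun p : alternatingGroup (Fin 9) =>
    (p : Equiv.Perm (Fin 9)) (finSumFinEquiv (m := 7) (n := 2) (Sum.inl i))) e
  simpa [upHom, Equiv.permCongr_apply] using this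

end CfsgLib.CoOneLocals
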