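import Cfsg.Agent.Lib.CoOneLocals.Cert
import Cfsg.Agent.Lib.CoOneLocals.Basic
import Cfsg.Agent.Lib.MonsterType.Held.Centralizer

/-!
The element of order 7 without fixed vectors inside the centraliser and normaliser of a lifted
7-cycle, through the action of the latter centraliser on three fixed classes.
-/

set_option autoImplicit false
set_option maxRecDepth 100000
set_option Elab.async false

noncomputable section

namespace CfsgLib.CoOneLocals

open Cfsg CfsgLib.Golay CfsgLib.MonsterType CfsgLib.Sporadic.CoOne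
open CfsgLib.MonsterType.Held (sevW sevW_pow_seven centK mem_centK rho rho_mul rho_one rhoHom rhoHom_coe rho_eq_one
  kapOf kap_eq basV up kap)

/-- The matrix on three classes read from rows. -/
def rhoRows (R : List (List ℤ)) : Matrix (Fin 3) (Fin 3) (ZMod 2) :=
  Matrix.of fun a b => kapOf (fun i => dotInt (basV (up b)) (rowsFrame R i) / 8) (up a)

theorem rho_rows {g : Co0} {R : List (List ℤ)} (hg : Rows g R) : rho g = rhoRows R := by
  ext a b
  show kap (g • Held.bas (up b)) (up a) = _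
  rw [kap_eq, hg.act]
  rfl

/-- The matrix of the transported element. -/
def mX : Matrix (Fin 3) (Fin 3) (ZMod 2) := rhoRows rowsX1

/-- The matrix of its image under the inverter. -/
def mXb : Matrix (Fin 3) (Fin 3) (ZMod 2) := rhoRows rowsX1b

/-- The entries of a matrix by a number. -/
def matOf (c : ℕ) : Matrix (Fin 3) (Fin 3) (ZMod 2) :=
  Matrix.of fun i j => if c.testBit (3 * i.val + j.val) then 1 else 0

theorem commutant_table : ∀ M : Matrix (Fin 3) (Fin 3) (ZMod 2),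
    (M 0 0 * M 1 1 * M 2 2 - M 0 0 * M 1 2 * M 2 1 - M 0 1 * M 1 0 * M 2 2 + M 0 1 * M 1 2 * M 2 0 +
      M 0 2 * M 1 0 * M 2 1 - M 0 2 * M 1 1 * M 2 0) = 1 → M * mX = mX * M → ∃ i : Fin 7, M = mX ^ i.val := by
  decide +kernel

theorem no_conj_table : ∀ M : Matrix (Fin 3) (Fin 3) (ZMod 2),
    (M 0 0 * M 1 1 * M 2 2 - M 0 0 * M 1 2 * M 2 1 - M 0 1 * M 1 0 * M 2 2 + M 0 1 * M 1 2 * M 2 0 +
      M 0 2 * M 1 0 * M 2 1 - M 0 2 * M 1 1 * M 2 0) = 1 → M * mX ≠ mXb * M := by
  decide +kernel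

theorem det_rho {g : Co0} (hg : g ∈ centK) :
    rho g 0 0 * rho g 1 1 * rho g 2 2 - rho g 0 0 * rho g 1 2 * rho g 2 1 - rho g 0 1 * rho g 1 0 * rho g 2 2 +
      rho g 0 1 * rho g 1 2 * rho g 2 0 + rho g 0 2 * rho g 1 0 * rho g 2 1 -
      rho g 0 2 * rho g 1 1 * rho g 2 0 = 1 := by
  have h := (rhoHom ⟨g, hg⟩).2
  rw [show (rhoHom ⟨g, hg⟩).1 = rho g from rfl, Matrix.det_fin_three] at h
  exact h

theorem gam_conj_x : gamEl * xEl * gamEl⁻¹ = x1El := mul_inv_eq_iff_eq_mul.mpr gam_x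

theorem gam_conj_db : gamEl * dbEl * gamEl⁻¹ = sevW := mul_inv_eq_iff_eq_mul.mpr gam_db

theorem db_pow_seven : dbEl ^ 7 = 1 := by
  have h := congrArg (· ^ 7) gam_conj_db
  simp only [conj_pow, sevW_pow_seven] at h
  exact conj_eq_one_iff.mp h

theorem x1_mem : x1El ∈ centK := by
  refine mem_centK.mpr ?_
  rw [← gam_conj_x, ← gam_conj_db, conj_mul, conj_mul, db_x]

theorem rho_pow {g : Co0} (hg : g ∈ centK) (n : ℕ) : rho (g ^ n) = rho g ^ n := by
  induction n with
  | zero => rw [pow_zero, pow_zero, rho_one]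
  | succ n ih => rw [pow_succ, pow_succ, rho_mul (pow_mem hg n) hg, ih]

/-- An element commuting with both lies in the product of the two cyclic groups. -/
theorem commute_both {g : Co0} (hx : g * xEl = xEl * g) (hy : g * dbEl = dbEl * g) :
    ∃ i j : ℕ, bar g = bar xEl ^ i * bar dbEl ^ j := by
  set c := gamEl * g * gamEl⁻¹ with hc
  have hcK : c ∈ centK := mem_centK.mpr (by rw [hc, ← gam_conj_db, conj_mul, conj_mul, hy])
  have hcx : c * x1El = x1El * c := by rw [hc, ← gam_conj_x, conj_mul, conj_mul, hx]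
  have hM : rho c * mX = mX * rho c := by
    rw [show mX = rho x1El from (rho_rows rX1).symm, ← rho_mul hcK x1_mem, hcx, rho_mul x1_mem hcK]
  obtain ⟨i, hi⟩ := commutant_table _ (det_rho hcK) hM
  have hd : c * (x1El ^ i.val)⁻¹ ∈ centK := mul_mem hcK (inv_mem (pow_mem x1_mem _))
  have h1 : rho (c * (x1El ^ i.val)⁻¹) = 1 := by
    rw [rho_mul hcK (inv_mem (pow_mem x1_mem _)), hi, show mX = rho x1El from (rho_rows rX1).symm,
      ← rho_pow x1_mem, ← rho_mul (pow_mem x1_mem _) (inv_mem (pow_mem x1_mem _)), mul_inv_cancel, rho_one]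
  obtain ⟨t, ht⟩ := rho_eq_one hd h1
  have hg : g = gamEl⁻¹ * (c * (x1El ^ i.val)⁻¹) * gamEl * (gamEl⁻¹ * x1El ^ i.val * gamEl) := by
    rw [hc]; group
  have hx' : gamEl⁻¹ * x1El ^ i.val * gamEl = xEl ^ i.val := by
    rw [← gam_conj_x, conj_pow]; group
  have hs' : gamEl⁻¹ * sevW ^ t * gamEl = dbEl ^ t := by
    rw [← gam_conj_db, conj_pow]; group
  have hcomm : Commute (bar dbEl ^ t) (bar xEl ^ i.val) := by
    refine Commute.pow_pow ?_ _ _
    exact (show Commute dbEl xEl from db_x).map bar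
  refine ⟨i.val, t, ?_⟩
  rw [← hcomm.eq, hg, hx']
  rcases ht with e | e
  · rw [e, hs', map_mul, map_pow, map_pow]
  · rw [e, show gamEl⁻¹ * (sgnW ⟨1, one_mem_golay⟩ * sevW ^ t) * gamEl = negW * dbEl ^ t by
      rw [← hs', show sgnW ⟨1, one_mem_golay⟩ = negW from rfl]
      calc gamEl⁻¹ * (negW * sevW ^ t) * gamEl = gamEl⁻¹ * negW * (sevW ^ t * gamEl) := by group
        _ = negW * gamEl⁻¹ * (sevW ^ t * gamEl) := by rw [negW_comm gamEl⁻¹]
        _ = _ := by group]
    rw [map_mul, map_mul, bar_negW, one_mul, map_pow, map_pow]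

/-- No element commutes with one and inverts the other. -/
theorem no_inverter {g : Co0} (hx : g * xEl = xEl * g) (hy : g * dbEl * g⁻¹ = dbEl⁻¹) : False := by
  set c := gamEl * g * gamEl⁻¹ with hc
  have hcx : c * x1El = x1El * c := by rw [hc, ← gam_conj_x, conj_mul, conj_mul, hx]
  have hcs : c * sevW = sevW⁻¹ * c := by
    rw [hc, ← gam_conj_db, conj_inv, conj_mul, conj_mul, mul_inv_eq_iff_eq_mul.mp hy]
  set d := HeldNorm.inv7 * c with hd
  have hdK : d ∈ centK := mem_centK.mpr (by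
    rw [hd, mul_assoc, hcs, ← mul_assoc, HeldNorm.inv7_comm, mul_assoc])
  have hdx : d * x1El = x1bEl * d := by rw [hd, mul_assoc, hcx, ← mul_assoc, ← x1b_inv, mul_assoc]
  have hxb : x1bEl ∈ centK := by
    rw [show x1bEl = d * x1El * d⁻¹ by rw [hdx, mul_inv_cancel_right]]
    exact mul_mem (mul_mem hdK x1_mem) (inv_mem hdK)
  refine no_conj_table _ (det_rho hdK) ?_
  rw [show mX = rho x1El from (rho_rows rX1).symm, show mXb = rho x1bEl from (rho_rows rX1b).symm,
    ← rho_mul hdK x1_mem, hdx, rho_mul hxb hdK]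

end CfsgLib.CoOneLocals
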