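import Cfsg.Agent.Lib.CoOneLocals.Nine
import Cfsg.Agent.Lib.CoOneLocals.SevenHeld
import Cfsg.Agent.Lib.CoOneLocals.SevenCycles

/-!
The centraliser in `Co₁` of an element of order 7 without fixed vectors: the cyclic group times the
alternating group of degree 7, given the bound by the orbit of one minimal vector.
-/

set_option autoImplicit false
set_option maxRecDepth 100000
set_option Elab.async false

noncomputable section

namespace CfsgLib.CoOneLocals

open Cfsg CfsgLib.Golay CfsgLib.MonsterType CfsgLib.Sporadic.CoOne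
open scoped Pointwise

/-- The alternating group of degree 7 inside the quotient. -/
def sevEmb : alternatingGroup (Fin 7) →* Spor.Co1 := nineEmb.comp upHom

theorem sevEmb_injective : Function.Injective sevEmb := nineEmb_injective.comp upHom_injective

theorem up_qA : ((upHom qA : alternatingGroup (Fin 9)) : Equiv.Perm (Fin 9)) = pA := by decide +kernel

theorem up_qB : ((upHom qB : alternatingGroup (Fin 9)) : Equiv.Perm (Fin 9)) = pB := by decide +kernel

theorem sevEmb_qA : sevEmb qA = bar daEl := by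
  rw [sevEmb, MonoidHom.comp_apply, show upHom qA = MonsterLocal21.Thompson.nineHom ⟨daEl, da_mem⟩ from
    Subtype.ext (up_qA.trans nine_da.symm), nineEmb_da]

/-- The image of the lifted 7-cycle. -/
def yB : Spor.Co1 := bar dbEl

theorem sevEmb_qB : sevEmb qB = yB := by
  rw [sevEmb, MonoidHom.comp_apply, show upHom qB = MonsterLocal21.Thompson.nineHom ⟨dbEl, db_mem⟩ from
    Subtype.ext (up_qB.trans nine_db.symm), nineEmb_db]
  rfl

theorem sevEmb_xB (a : alternatingGroup (Fin 7)) : Commute xB (sevEmb a) := by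
  have h : (Subgroup.centralizer ({xB} : Set Spor.Co1)).comap sevEmb = ⊤ := by
    refine eq_top_of_qA_qB ?_ ?_
    · rw [Subgroup.mem_comap, Subgroup.mem_centralizer_singleton_iff, sevEmb_qA, xB, ← map_mul, ← map_mul, da_x]
    · rw [Subgroup.mem_comap, Subgroup.mem_centralizer_singleton_iff, sevEmb_qB, xB, yB, ← map_mul, ← map_mul,
        db_x]
  have := (Subgroup.eq_top_iff' _).mp h a
  rw [Subgroup.mem_comap, Subgroup.mem_centralizer_singleton_iff] at this
  exact this.symm

theorem xB_pow_seven : xB ^ 7 = 1 := by rw [xB, ← map_pow, x_pow_seven, map_one]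

theorem xB_ne : xB ≠ 1 := fun e => xB_tauB (by rw [e, mul_one, one_mul])

theorem orderOf_xB : orderOf xB = 7 := by
  have := Fact.mk (show Nat.Prime 7 by norm_num)
  exact orderOf_eq_prime xB_pow_seven xB_ne

/-- The cyclic group of order 7 inside the quotient. -/
def cycEmb : Multiplicative (ZMod 7) →* Spor.Co1 :=
  MonoidHom.mk' (fun a => xB ^ (Multiplicative.toAdd a).val) fun a b => by
    rw [← pow_add, toAdd_mul, ZMod.val_add]
    conv_rhs => rw [← pow_mod_orderOf, orderOf_xB]

theorem cycEmb_apply (a : Multiplicative (ZMod 7)) : cycEmb a = xB ^ (Multiplicative.toAdd a).val := rfl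

/-- The product inside the quotient. -/
def prodEmb : Multiplicative (ZMod 7) × alternatingGroup (Fin 7) →* Spor.Co1 :=
  MonoidHom.noncommCoprod cycEmb sevEmb fun _ b => (sevEmb_xB b).pow_left _

theorem prodEmb_apply (p : Multiplicative (ZMod 7) × alternatingGroup (Fin 7)) :
    prodEmb p = cycEmb p.1 * sevEmb p.2 := rfl

theorem prodEmb_injective : Function.Injective prodEmb := by
  refine (injective_iff_map_eq_one _).mpr ?_
  rintro ⟨a, b⟩ h
  rw [prodEmb_apply] at h
  simp only [cycEmb_apply] at h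
  set i : ZMod 7 := Multiplicative.toAdd a with hi
  have hc : Commute (xB ^ i.val) tauB := by
    rw [eq_inv_of_mul_eq_one_left h]
    exact (show Commute (sevEmb b) tauB from nineEmb_tauB _).inv_left
  have h0 : i = 0 := by
    by_contra hne
    obtain ⟨j, hj⟩ := (show ∀ k : ZMod 7, k ≠ 0 → ∃ j : Fin 7, k.val * j.val % 7 = 1 by decide +kernel) i hne
    have h2 := hc.pow_left j.val
    rw [← pow_mul, ← pow_mod_orderOf, orderOf_xB, hj, pow_one] at h2
    exact xB_tauB h2.eq
  rw [h0, ZMod.val_zero, pow_zero, one_mul] at h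
  have hb : b = 1 := sevEmb_injective (h.trans (map_one _).symm)
  rw [hb, show a = 1 from Multiplicative.toAdd.injective h0]
  rfl

/-- The centraliser of the element of order 7. -/
abbrev C7 : Subgroup Spor.Co1 := Subgroup.centralizer ({xB} : Set Spor.Co1)

theorem prodEmb_mem (p : Multiplicative (ZMod 7) × alternatingGroup (Fin 7)) : prodEmb p ∈ C7 := by
  rw [Subgroup.mem_centralizer_singleton_iff, prodEmb_apply, cycEmb_apply]
  exact ((Commute.self_pow xB _).mul_right (sevEmb_xB p.2)).symm.eq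

theorem card_prod : Nat.card (Multiplicative (ZMod 7) × alternatingGroup (Fin 7)) = 17640 := by
  rw [Nat.card_prod, Nat.card_congr Multiplicative.toAdd, Nat.card_zmod, nat_card_alternatingGroup, Nat.card_fin]
  decide +kernel

theorem card_C7 (hcard : Nat.card ↥(Subgroup.centralizer ({xEl} : Set Co0)) ≤ 196560) :
    Nat.card C7 ≤ 98280 := by
  have := two_mul_card_centralizer (h := xEl) (n := 7) (by decide) x_pow_seven
  show Nat.card ↥(Subgroup.centralizer ({bar xEl} : Set Spor.Co1)) ≤ 98280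
  omega

theorem card_alt_seven : Nat.card (alternatingGroup (Fin 7)) = 2520 := by
  rw [nat_card_alternatingGroup, Nat.card_fin]
  decide +kernel

/-- Conjugation in the centraliser preserves the alternating group. -/
theorem conj_sevEmb (hcard : Nat.card ↥(Subgroup.centralizer ({xEl} : Set Co0)) ≤ 196560)
    {c : Spor.Co1} (hc : c ∈ C7) (a : alternatingGroup (Fin 7)) : ∃ b, c⁻¹ * sevEmb a * c = sevEmb b := by
  classical
  have hsimp : IsSimpleGroup (alternatingGroup (Fin 7)) := alternatingGroup.isSimpleGroup (by simp)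
  have : Finite Spor.Co1 := by
    have := co0_finite
    exact Quotient.finite _
  let f : Multiplicative (ZMod 7) × alternatingGroup (Fin 7) →* C7 := prodEmb.codRestrict _ prodEmb_mem
  have hf : Function.Injective f := fun p q e => prodEmb_injective (congrArg Subtype.val e)
  have hH : Nat.card f.range = 17640 := by
    rw [← card_prod]
    exact (Nat.card_congr (MonoidHom.ofInjective hf).toEquiv).symm
  have hidx : Nat.card (C7 ⧸ f.range) ≤ 5 := by
    have h := Subgroup.card_eq_card_quotient_mul_card_subgroup f.range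
    have := card_C7 hcard
    rw [hH] at h
    omega
  let act : alternatingGroup (Fin 7) →* Equiv.Perm (C7 ⧸ f.range) :=
    (MulAction.toPermHom C7 (C7 ⧸ f.range)).comp (f.comp (MonoidHom.inr _ _))
  have hker : act.ker = ⊤ := by
    refine (IsSimpleGroup.eq_bot_or_eq_top_of_normal _ inferInstance).resolve_left fun hbot => ?_
    have h := Nat.card_le_card_of_injective act ((MonoidHom.ker_eq_bot_iff act).mp hbot)
    rw [card_alt_seven, Nat.card_perm] at h
    exact absurd (h.trans (Nat.factorial_le hidx)) (by decide)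
  have hmem : ∀ a, (⟨c, hc⟩ : C7)⁻¹ * f (1, a) * ⟨c, hc⟩ ∈ f.range := by
    intro a
    have h1 : act a = 1 := MonoidHom.mem_ker.mp ((Subgroup.eq_top_iff' _).mp hker a)
    have h2 : f (1, a) • ((⟨c, hc⟩ : C7) : C7 ⧸ f.range) = ((⟨c, hc⟩ : C7) : C7 ⧸ f.range) :=
      congrArg (fun π : Equiv.Perm (C7 ⧸ f.range) => π ((⟨c, hc⟩ : C7) : C7 ⧸ f.range)) h1
    have h3 := QuotientGroup.eq.mp h2.symm
    simp only [smul_eq_mul] at h3
    rwa [← mul_assoc] at h3
  choose g hg using fun a => MonoidHom.mem_range.mp (hmem a)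
  have hmul : ∀ a b, g (a * b) = g a * g b := fun a b => hf (by
    rw [map_mul, hg, hg, hg, show ((1 : Multiplicative (ZMod 7)), a * b) = (1, a) * (1, b) by simp, map_mul]
    group)
  let π : alternatingGroup (Fin 7) →* Multiplicative (ZMod 7) :=
    (MonoidHom.fst _ _).comp (MonoidHom.mk' g hmul)
  have hπ : π.ker = ⊤ := by
    refine (IsSimpleGroup.eq_bot_or_eq_top_of_normal _ inferInstance).resolve_left fun hbot => ?_
    have h := Nat.card_le_card_of_injective π ((MonoidHom.ker_eq_bot_iff π).mp hbot)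
    rw [card_alt_seven, Nat.card_congr Multiplicative.toAdd, Nat.card_zmod] at h
    omega
  have h1 : (g a).1 = 1 := MonoidHom.mem_ker.mp ((Subgroup.eq_top_iff' _).mp hπ a)
  refine ⟨(g a).2, ?_⟩
  have h := congrArg Subtype.val (hg a)
  simp only [f, MonoidHom.codRestrict_apply, prodEmb_apply, h1, map_one, one_mul, Subgroup.coe_mul,
    Subgroup.coe_inv] at h
  exact h.symm

/-- A permutation squaring the 7-cycle. -/
def qR : alternatingGroup (Fin 7) :=
  ⟨Equiv.swap 1 4 * Equiv.swap 4 2 * (Equiv.swap 3 5 * Equiv.swap 5 6),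
    Equiv.Perm.mem_alternatingGroup.mpr (by decide +kernel)⟩

theorem qR_conj : qR⁻¹ * qB * qR = qB ^ 2 := by decide +kernel

theorem qB_pow_seven : qB ^ 7 = 1 := by decide +kernel

theorem qB_ne : qB ≠ 1 := by decide +kernel

theorem exists_qR (m : ℕ) (h0 : qB ^ m ≠ 1) :
    ∃ k : ℕ, (qR ^ k)⁻¹ * qB ^ m * qR ^ k = qB ∨ (qR ^ k)⁻¹ * qB ^ m * qR ^ k = qB⁻¹ := by
  have key : ∀ m : Fin 7, m.val ≠ 0 → ∃ k : Fin 3, (qR ^ k.val)⁻¹ * qB ^ m.val * qR ^ k.val = qB ∨
      (qR ^ k.val)⁻¹ * qB ^ m.val * qR ^ k.val = qB⁻¹ := by decide +kernel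
  have hmod : qB ^ m = qB ^ (m % 7) := pow_eq_pow_mod m qB_pow_seven
  rw [hmod] at h0 ⊢
  obtain ⟨k, hk⟩ := key ⟨m % 7, Nat.mod_lt _ (by norm_num)⟩ fun e => h0 (by
    simp only at e
    rw [e, pow_zero])
  exact ⟨k.val, hk⟩

/-- The centraliser is no larger. -/
theorem C7_le (hcard : Nat.card ↥(Subgroup.centralizer ({xEl} : Set Co0)) ≤ 196560) :
    C7 ≤ prodEmb.range := by
  classical
  intro c hc
  have hsev : ∀ a, sevEmb a ∈ prodEmb.range := fun a => ⟨(1, a), by rw [prodEmb_apply, map_one, one_mul]⟩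
  have hsev7 : ∀ a, sevEmb a ∈ C7 := fun a =>
    Subgroup.mem_centralizer_singleton_iff.mpr (sevEmb_xB a).symm.eq
  obtain ⟨b, hb⟩ := conj_sevEmb hcard hc qB
  have := Fact.mk (show Nat.Prime 7 by norm_num)
  have hb7 : b ^ 7 = 1 := sevEmb_injective (by
    rw [map_pow, ← hb, map_one, show c⁻¹ * sevEmb qB * c = c⁻¹ * sevEmb qB * c⁻¹⁻¹ by rw [inv_inv], conj_pow,
      ← map_pow, qB_pow_seven, map_one, mul_one, mul_inv_cancel])
  have hb1 : b ≠ 1 := fun e => qB_ne (sevEmb_injective (by
    rw [map_one]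
    rw [e, map_one, mul_eq_one_iff_eq_inv, inv_mul_eq_iff_eq_mul, mul_inv_cancel] at hb
    exact hb))
  have hord : ∀ a : alternatingGroup (Fin 7), a ^ 7 = 1 → a ≠ 1 →
      Nat.card (Subgroup.zpowers a) = 7 ^ (Nat.card (alternatingGroup (Fin 7))).factorization 7 := fun a h7 h1 => by
    rw [Nat.card_zpowers, orderOf_eq_prime h7 h1, card_alt_seven,
      show (2520 : ℕ).factorization 7 = 1 by decide +kernel, pow_one]
  let P : Sylow 7 (alternatingGroup (Fin 7)) := Sylow.ofCard (Subgroup.zpowers qB) (hord qB qB_pow_seven qB_ne)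
  let P' : Sylow 7 (alternatingGroup (Fin 7)) := Sylow.ofCard (Subgroup.zpowers b) (hord b hb7 hb1)
  obtain ⟨d, hd⟩ := MulAction.exists_smul_eq (alternatingGroup (Fin 7)) P P'
  have hmem : d⁻¹ * b * d ∈ Subgroup.zpowers qB := by
    have h : b ∈ MulAut.conj d • (P : Subgroup (alternatingGroup (Fin 7))) := by
      rw [← Sylow.coe_subgroup_smul, hd]
      exact Subgroup.mem_zpowers b
    obtain ⟨q, hq, e⟩ := h
    rw [show d⁻¹ * b * d = q by rw [← e]; simp [MulAut.conj_apply]; group]
    exact hq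
  rw [← (isOfFinOrder_of_finite qB).mem_powers_iff_mem_zpowers, Submonoid.mem_powers_iff] at hmem
  obtain ⟨m, hm⟩ := hmem
  have hm0 : qB ^ m ≠ 1 := by
    rw [hm]
    intro e
    rw [mul_assoc, inv_mul_eq_iff_eq_mul, mul_one, mul_eq_right] at e
    exact hb1 e
  obtain ⟨k, hk⟩ := exists_qR m hm0
  set e := d * qR ^ k with he
  have hconj : (c * sevEmb e)⁻¹ * sevEmb qB * (c * sevEmb e) = sevEmb ((qR ^ k)⁻¹ * qB ^ m * qR ^ k) := by
    rw [hm, show (c * sevEmb e)⁻¹ * sevEmb qB * (c * sevEmb e) =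
      (sevEmb e)⁻¹ * (c⁻¹ * sevEmb qB * c) * sevEmb e by group, hb, ← map_inv, ← map_mul, ← map_mul, he]
    congr 1
  set c2 := c * sevEmb e with hc2
  obtain ⟨g, hg⟩ := bar_surjective c2
  have hgx : g * xEl = xEl * g := (bar_comm_iff (by decide) x_pow_seven).mp (by
    rw [hg]
    exact Subgroup.mem_centralizer_singleton_iff.mp (mul_mem hc (hsev7 e)))
  have hgy : ∀ u : Co0, u ^ 7 = 1 → c2⁻¹ * yB * c2 = bar u → g⁻¹ * dbEl * g = u := by
    intro u hu hcu
    refine eq_of_pow_odd (n := 7) (by decide) ?_ hu ?_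
    · rw [show g⁻¹ * dbEl * g = g⁻¹ * dbEl * g⁻¹⁻¹ by rw [inv_inv], conj_pow, db_pow_seven, mul_one,
        mul_inv_cancel]
    · rw [map_mul, map_mul, map_inv, hg, ← hcu, yB]
  rw [sevEmb_qB] at hconj
  have hc2mem : c2 ∈ prodEmb.range := by
    rcases hk with hk | hk
    · rw [hk, sevEmb_qB] at hconj
      have h := hgy dbEl db_pow_seven hconj
      have hcomm : g * dbEl = dbEl * g := by
        rw [mul_assoc, inv_mul_eq_iff_eq_mul] at h
        exact h.symm
      obtain ⟨i, j, hij⟩ := commute_both hgx hcomm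
      rw [hg] at hij
      rw [hij, show bar dbEl = sevEmb qB from sevEmb_qB.symm]
      refine mul_mem (pow_mem ?_ _) (pow_mem (hsev qB) _)
      refine MonoidHom.mem_range.mpr ⟨(Multiplicative.ofAdd (1 : ZMod 7), 1), ?_⟩
      rw [prodEmb_apply, cycEmb_apply, toAdd_ofAdd, map_one, mul_one, ZMod.val_one, pow_one]
      rfl
    · rw [hk, map_inv, sevEmb_qB, yB, ← map_inv] at hconj
      have h := hgy dbEl⁻¹ (by rw [inv_pow, db_pow_seven, inv_one]) hconj
      refine (no_inverter hgx ?_).elim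
      have h2 : g⁻¹ * dbEl⁻¹ * g = dbEl := by
        rw [show g⁻¹ * dbEl⁻¹ * g = (g⁻¹ * dbEl * g)⁻¹ by group, h, inv_inv]
      conv_lhs => rw [← h2]
      group
  rw [show c = c2 * (sevEmb e)⁻¹ by rw [hc2, mul_inv_cancel_right]]
  exact mul_mem hc2mem (inv_mem (hsev e))

theorem exists_seven (hcard : Nat.card ↥(Subgroup.centralizer ({xEl} : Set Co0)) ≤ 196560) :
    ∃ V : Subgroup Spor.Co1, Nat.card V = 7 ∧
      Nonempty (↥(Subgroup.centralizer (V : Set Spor.Co1)) ≃*
        Multiplicative (ZMod 7) × alternatingGroup (Fin 7)) := by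
  refine ⟨Subgroup.zpowers xB, (Nat.card_zpowers xB).trans orderOf_xB, ?_⟩
  have hC : Subgroup.centralizer ((Subgroup.zpowers xB : Subgroup Spor.Co1) : Set Spor.Co1) = prodEmb.range := by
    rw [Subgroup.zpowers_eq_closure, Subgroup.centralizer_closure]
    refine le_antisymm (C7_le hcard) ?_
    rintro _ ⟨p, rfl⟩
    exact prodEmb_mem p
  rw [hC]
  exact ⟨(MonoidHom.ofInjective prodEmb_injective).symm⟩

end CfsgLib.CoOneLocals
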