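import Cfsg.Agent.Lib.CoOneLocals.NineNorm
import Cfsg.Agent.Lib.CoOneLocals.Seven
import Cfsg.Agent.Lib.CoOneLocals.Rigid

/-!
In every group isomorphic to `Co₁`: a subgroup of order 7 with centraliser `Z₇ × A₇` and a subgroup
of order 3 with normaliser `S₃ × A₉`.
-/

set_option autoImplicit false

noncomputable section

namespace CfsgLib.CoOneLocals

open Cfsg

universe u

variable {G H : Type*} [Group G] [Group H]

theorem centralizer_map_equiv (φ : G ≃* H) (V : Subgroup G) :
    Subgroup.centralizer ((V.map φ.toMonoidHom : Subgroup H) : Set H) =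
      (Subgroup.centralizer (V : Set G)).map φ.toMonoidHom := by
  ext h
  obtain ⟨g, rfl⟩ := φ.surjective h
  simp only [Subgroup.mem_centralizer_iff, Subgroup.mem_map_equiv, MulEquiv.symm_apply_apply, Subgroup.coe_map,
    MulEquiv.coe_toMonoidHom, Set.forall_mem_image, SetLike.mem_coe]
  constructor
  · intro hc v hv
    exact φ.injective (by rw [map_mul, map_mul]; exact hc hv)
  · intro hc v hv
    rw [← map_mul, ← map_mul, hc v hv]

theorem normalizer_map_equiv (φ : G ≃* H) (V : Subgroup G) :
    Subgroup.normalizer ((V.map φ.toMonoidHom : Subgroup H) : Set H) =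
      (Subgroup.normalizer (V : Set G)).map φ.toMonoidHom :=
  (Subgroup.map_equiv_normalizer_eq V φ).symm

/-- The two local subgroups in a copy of `Co₁`. -/
theorem exists_locals {G : Type*} [Group G] (h : Spor.IsoCo1 G) :
    (∃ V : Subgroup G, Nat.card V = 7 ∧ Nonempty (↥(Subgroup.centralizer (V : Set G)) ≃*
        Multiplicative (ZMod 7) × alternatingGroup (Fin 7))) ∧
      ∃ W : Subgroup G, Nat.card W = 3 ∧ Nonempty (↥(Subgroup.normalizer (W : Set G)) ≃*
        Equiv.Perm (Fin 3) × alternatingGroup (Fin 9)) := by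
  obtain ⟨φ⟩ := h
  obtain ⟨V, hV, ⟨eV⟩⟩ := exists_seven card_centralizer_x_le
  obtain ⟨W, hW, ⟨eW⟩⟩ := exists_nine
  refine ⟨⟨V.map φ.symm.toMonoidHom, ?_, ?_⟩, W.map φ.symm.toMonoidHom, ?_, ?_⟩
  · rw [← hV]
    exact (Nat.card_congr (V.equivMapOfInjective _ φ.symm.injective).toEquiv).symm
  · rw [centralizer_map_equiv]
    exact ⟨(Subgroup.equivMapOfInjective _ _ φ.symm.injective).symm.trans eV⟩
  · rw [← hW]
    exact (Nat.card_congr (W.equivMapOfInjective _ φ.symm.injective).toEquiv).symm
  · rw [normalizer_map_equiv]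
    exact ⟨(Subgroup.equivMapOfInjective _ _ φ.symm.injective).symm.trans eW⟩

end CfsgLib.CoOneLocals
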