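import Cfsg.Agent.Lib.CoOneLocals.Cert
import Cfsg.Agent.Lib.CoOneLocals.Basic
import Cfsg.Agent.Lib.MonsterLocal21.ThompsonLattice

/-!
The normaliser in `Co₁` of a subgroup of order 3 whose lift has no fixed coordinates: the alternating
group of degree 9 centralising an inverted element of order 3.
-/

set_option autoImplicit false
set_option maxRecDepth 100000
set_option Elab.async false

noncomputable section

namespace CfsgLib.CoOneLocals

open Cfsg CfsgLib.Golay CfsgLib.MonsterType CfsgLib.Sporadic.CoOne CfsgLib.MonsterLocal21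
open CfsgLib.MonsterLocal21.Thompson (tau coord blk stepM kap_smul expd basC dualV liftV perm9 nineHom
  nineHom_surjective card_ker_le nineHom_eq_one sigM sigM_order blk_surj good_top)

theorem tau_cube : tau ^ 3 = 1 := by
  show permHom sigM ^ 3 = 1
  rw [← map_pow, ← sigM_order, pow_orderOf_eq_one, map_one]

/-- The rows acting on functions. -/
def appR (R : List (List ℤ)) (u : GolayPt → ℤ) : GolayPt → ℤ := fun i => dotInt u (rowsFrame R i) / 8

theorem kap_rows {g : Co0} {R m : List (List ℤ)} (hg : Rows g R)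
    (hm : ∀ i j : Fin 8, dotInt (appR R (expd (basC i))) (dualV j) = (m.getD i.val []).getD j.val 0)
    (x : Fin 256) : coord.kap (g • coord.lift x) = stepM m x :=
  kap_smul g (appR R) m hg.act hm x

theorem matT_ok : ∀ i j : Fin 8,
    dotInt (appR rowsT (expd (basC i))) (dualV j) = (matT.getD i.val []).getD j.val 0 := by decide +kernel

theorem matA_ok : ∀ i j : Fin 8,
    dotInt (appR rowsDa (expd (basC i))) (dualV j) = (matA.getD i.val []).getD j.val 0 := by decide +kernel

theorem matB_ok : ∀ i j : Fin 8,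
    dotInt (appR rowsDb (expd (basC i))) (dualV j) = (matB.getD i.val []).getD j.val 0 := by decide +kernel

/-- The 3-cycle on nine points. -/
def pA : Equiv.Perm (Fin 9) := perm9 [1, 2, 0, 3, 4, 5, 6, 7, 8] [2, 0, 1, 3, 4, 5, 6, 7, 8]

/-- The 7-cycle on nine points. -/
def pB : Equiv.Perm (Fin 9) := perm9 [1, 2, 3, 4, 5, 6, 0, 7, 8] [6, 0, 1, 2, 3, 4, 5, 7, 8]

theorem blk_T : ∀ x : Fin 256, blk (stepM matT x) = blk x := by decide +kernel

theorem blk_A : ∀ x : Fin 256, blk (stepM matA x) = (blk x).map pA := by decide +kernel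

theorem blk_B : ∀ x : Fin 256, blk (stepM matB x) = (blk x).map pB := by decide +kernel

theorem blk_kap_t {v : leechLattice} (hv : tau • v = v) : blk (coord.kap (tEl • v)) = blk (coord.kap v) := by
  rw [coord.kap_congr ((coord.cong_lift hv).smul' tEl), kap_rows rT matT_ok, blk_T]

theorem fixed_t {v : leechLattice} (hv : tau • v = v) : tau • (tEl • v) = tEl • v := by
  have h2 : tau • tau • (tEl • v) = tEl • v := by rw [← mul_smul, ← mul_smul, ← t_tau, mul_smul, hv]
  calc tau • tEl • v = tau • tau • tau • (tEl • v) := by rw [h2]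
    _ = (tau ^ 3) • (tEl • v) := by simp only [pow_succ, pow_zero, one_mul, mul_smul]
    _ = tEl • v := by rw [tau_cube, one_smul]

/-- The centraliser of the element of order 3. -/
abbrev C3 : Subgroup Co0 := cent tau

theorem da_mem : daEl ∈ C3 := Subgroup.mem_centralizer_singleton_iff.mpr da_tau

theorem db_mem : dbEl ∈ C3 := Subgroup.mem_centralizer_singleton_iff.mpr db_tau

theorem tau_mem : tau ∈ C3 := Subgroup.mem_centralizer_singleton_iff.mpr rfl

theorem negW_mem : negW ∈ C3 := Subgroup.mem_centralizer_singleton_iff.mpr (negW_comm tau)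

theorem nine_da : (nineHom ⟨daEl, da_mem⟩ : Equiv.Perm (Fin 9)) = pA :=
  coord.blockHom_eq blk _ blk_surj good_top fun x =>
    (congrArg blk (kap_rows rDa matA_ok x)).trans (blk_A x)

theorem nine_db : (nineHom ⟨dbEl, db_mem⟩ : Equiv.Perm (Fin 9)) = pB :=
  coord.blockHom_eq blk _ blk_surj good_top fun x =>
    (congrArg blk (kap_rows rDb matB_ok x)).trans (blk_B x)

theorem cov_nine (c : C3) : coord.Cov blk c (nineHom c : Equiv.Perm (Fin 9)) := by
  obtain ⟨p, -, hcov⟩ : c ∈ coord.good blk (alternatingGroup (Fin 9)) := by rw [good_top]; trivial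
  rw [show (nineHom c : Equiv.Perm (Fin 9)) = p from coord.blockHom_eq blk _ blk_surj good_top hcov]
  exact hcov

theorem t_tau' : tau * tEl = tEl * (tau * tau) := by
  have h : tEl * (tau * tau) = tau * tau * (tau * tau) * tEl := by
    rw [← mul_assoc, t_tau, mul_assoc (tau * tau), t_tau, ← mul_assoc]
  rw [h, show tau * tau * (tau * tau) = tau ^ 3 * tau by simp only [pow_succ, pow_zero, one_mul, mul_assoc],
    tau_cube, one_mul]

theorem t_conj_mem (c : C3) : tEl * (c : Co0) * tEl ∈ C3 := by
  have h := Subgroup.mem_centralizer_singleton_iff.mp c.2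
  refine Subgroup.mem_centralizer_singleton_iff.mpr ?_
  calc tEl * (c : Co0) * tEl * tau = tEl * ((c : Co0) * (tau * tau)) * tEl := by
        rw [mul_assoc (tEl * (c : Co0)), t_tau]; simp only [mul_assoc]
    _ = tEl * (tau * tau * (c : Co0)) * tEl := by
      rw [((show Commute (c : Co0) tau from h).mul_right h).eq]
    _ = tau * (tEl * (c : Co0) * tEl) := by
        simp only [← mul_assoc]; rw [mul_assoc tEl tau tau, ← t_tau']

theorem t_conj_nine (c : C3) : nineHom ⟨tEl * (c : Co0) * tEl, t_conj_mem c⟩ = nineHom c := by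
  refine Subtype.ext (coord.blockHom_eq blk _ blk_surj good_top fun x => ?_)
  show blk (coord.kap ((tEl * (c : Co0) * tEl) • coord.lift x)) = _
  have h1 : tau • (tEl • coord.lift x) = tEl • coord.lift x := fixed_t (coord.lift_fix x)
  rw [mul_smul, mul_smul, blk_kap_t (smul_fix c h1), ← coord.act_kap c h1]
  refine (cov_nine c _).trans ?_
  rw [blk_kap_t (coord.lift_fix x), coord.kap_lift]

/-! ### Not commuting with the element of order seven -/

theorem entP_latE {g h : Co0} {R S : List (List ℤ)} (hg : Rows g R) (hh : Rows h S) (i j : Fin 24) :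
    64 * (((g * h) • LeechEight.latE (pt j) : leechLattice) : GolayPt → ℤ) (pt i) = 8 * entP R S i j := by
  rw [hg.mul_smul_coe hh, Finset.sum_eq_single (pt j) (fun k _ hk => ?_) (by simp)]
  · rw [latE_apply, if_pos rfl, idx_pt, idx_pt]
  · rw [latE_apply, if_neg hk, zero_mul]

theorem ne_of_absDiff {g h k l : Co0} {R S T U : List (List ℤ)} (hg : Rows g R) (hh : Rows h S) (hk : Rows k T)
    (hl : Rows l U) (hc : absDiff R S T U = true) : bar (g * h) ≠ bar (k * l) := by
  intro e
  simp only [absDiff, List.any_eq_true, List.mem_finRange, true_and, decide_eq_true_eq] at hc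
  obtain ⟨i, j, hij⟩ := hc
  have h1 := entP_latE hg hh i j
  have h2 := entP_latE hk hl i j
  rcases bar_eq_bar.mp e with e' | e'
  · rw [e'] at h1
    exact hij (congrArg Int.natAbs (by linarith : entP R S i j = entP T U i j))
  · rw [e', mul_smul, negW_smul, AddSubgroup.coe_neg, Pi.neg_apply] at h1
    rw [show entP R S i j = -entP T U i j by linarith, Int.natAbs_neg] at hij
    exact hij rfl

/-- The image of the element of order 3. -/
def tauB : Spor.Co1 := bar tau

/-- The image of the inverter. -/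
def tB : Spor.Co1 := bar tEl

/-- The image of the element of order 7. -/
def xB : Spor.Co1 := bar xEl

theorem xB_tauB : xB * tauB ≠ tauB * xB := by
  rw [xB, tauB, ← map_mul, ← map_mul]
  exact ne_of_absDiff rX rTau rTau rX x_tau_diff

theorem tauB_ne : tauB ≠ 1 := fun e => xB_tauB (by rw [e, mul_one, one_mul])

theorem orderOf_tauB : orderOf tauB = 3 := by
  have := Fact.mk (show Nat.Prime 3 by norm_num)
  exact orderOf_eq_prime (by rw [tauB, ← map_pow, tau_cube, map_one]) tauB_ne

theorem tauB_cube : tauB ^ 3 = 1 := orderOf_tauB ▸ pow_orderOf_eq_one tauB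

theorem tB_sq : tB * tB = 1 := by rw [tB, ← map_mul, t_sq, map_one]

theorem tB_tauB : tB * tauB = tauB * tauB * tB := by
  rw [tB, tauB, ← map_mul, ← map_mul, ← map_mul, t_tau]

theorem tauB_sq_ne : tauB * tauB ≠ tauB := fun e => tauB_ne (mul_eq_left.mp e)

theorem tB_comm_ne : tB * tauB ≠ tauB * tB := fun e =>
  tauB_sq_ne (mul_right_cancel (tB_tauB.symm.trans e))

/-! ### The kernel -/

/-- The six elements of the kernel. -/
def kerEl (p : Bool × Fin 3) : C3 :=
  ⟨(if p.1 then negW else 1) * tau ^ p.2.val,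
    mul_mem (by split_ifs; exacts [negW_mem, one_mem _]) (pow_mem tau_mem _)⟩

theorem nine_neg : nineHom ⟨negW, negW_mem⟩ = 1 :=
  nineHom_eq_one (coord.rho_eq_one fun v _ => by
    show Cong (negW • v) v
    rw [negW_smul]; exact Cong.neg' v)

theorem nine_tau : nineHom ⟨tau, tau_mem⟩ = 1 :=
  nineHom_eq_one (coord.rho_eq_one fun v hv => by
    show Cong (tau • v) v
    rw [hv]; exact Cong.refl' v)

theorem nine_kerEl (p : Bool × Fin 3) : nineHom (kerEl p) = 1 := by
  have e : kerEl p = (if p.1 then ⟨negW, negW_mem⟩ else 1) * (⟨tau, tau_mem⟩ : C3) ^ p.2.val := by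
    refine Subtype.ext ?_
    rcases p with ⟨b, i⟩
    cases b <;> simp [kerEl]
  rw [e, map_mul, map_pow, nine_tau, one_pow, mul_one]
  split_ifs
  exacts [nine_neg, map_one _]

theorem bar_kerEl (p : Bool × Fin 3) : bar (kerEl p : Co0) = tauB ^ p.2.val := by
  simp only [kerEl]
  rw [map_mul, map_pow, ← tauB]
  split_ifs <;> simp [bar_negW]

theorem ker_cases {c : C3} (hc : nineHom c = 1) : ∃ p, c = kerEl p := by
  have := co0_finite
  have hinj : Function.Injective fun p => (⟨kerEl p, nine_kerEl p⟩ : nineHom.ker) := by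
    intro a b e
    have e0 : kerEl a = kerEl b := congrArg Subtype.val e
    have e1 := congrArg (fun c : C3 => bar (c : Co0)) e0
    simp only [bar_kerEl] at e1
    have h2 : a.2 = b.2 := Fin.ext (pow_injOn_Iio_orderOf (by rw [orderOf_tauB]; exact a.2.isLt)
      (by rw [orderOf_tauB]; exact b.2.isLt) e1)
    have e2 := congrArg (fun c : C3 => (c : Co0)) e0
    simp only [kerEl, h2] at e2
    have e3 := mul_right_cancel e2
    rcases a with ⟨_ | _, i⟩ <;> rcases b with ⟨_ | _, j⟩ <;> simp at h2 e3
    · rw [h2]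
    · exact absurd e3.symm negW_ne_one
    · exact absurd e3 negW_ne_one
    · rw [h2]
  have hb := (Nat.bijective_iff_injective_and_card _).mpr ⟨hinj, le_antisymm
    (Nat.card_le_card_of_injective _ hinj) (card_ker_le.trans_eq (by simp))⟩
  obtain ⟨p, hp⟩ := hb.2 ⟨c, hc⟩
  exact ⟨p, (congrArg Subtype.val hp).symm⟩

/-! ### The complement -/

/-- The preimage of the complement. -/
def E3 : Subgroup C3 :=
  (Subgroup.centralizer ({tB} : Set Spor.Co1)).comap (bar.comp C3.subtype)

theorem mem_E3 {c : C3} : c ∈ E3 ↔ bar (c : Co0) * tB = tB * bar (c : Co0) := by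
  rw [E3, Subgroup.mem_comap, Subgroup.mem_centralizer_singleton_iff]
  rfl

theorem bar_tauB_comm (c : C3) : bar (c : Co0) * tauB = tauB * bar (c : Co0) := by
  rw [tauB, ← map_mul, ← map_mul, Subgroup.mem_centralizer_singleton_iff.mp c.2]

/-- The projection of the preimage of the complement. -/
def piE : E3 →* alternatingGroup (Fin 9) := nineHom.comp E3.subtype

theorem piE_surjective : Function.Surjective piE := by
  intro a
  obtain ⟨c, hc⟩ := nineHom_surjective a
  obtain ⟨p, hp⟩ := ker_cases (c := ⟨tEl * (c : Co0) * tEl, t_conj_mem c⟩ * c⁻¹)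
    (by rw [map_mul, map_inv, t_conj_nine, mul_inv_cancel])
  have e : tB * bar (c : Co0) * tB = tauB ^ p.2.val * bar (c : Co0) := by
    have h := congrArg (fun c : C3 => bar (c : Co0)) hp
    simp only [bar_kerEl, Subgroup.coe_mul, Subgroup.coe_inv, map_mul, map_inv] at h
    rw [tB, ← h, inv_mul_cancel_right]
  refine ⟨⟨c * (⟨tau, tau_mem⟩ : C3) ^ (2 * p.2.val), mem_E3.mpr ?_⟩, ?_⟩
  · simp only [Subgroup.coe_mul, SubmonoidClass.coe_pow, map_mul, map_pow]
    rw [show bar tau = tauB from rfl]
    have e' : tB * bar (c : Co0) = tauB ^ p.2.val * bar (c : Co0) * tB := by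
      rw [← e, mul_assoc, tB_sq, mul_one]
    have ht : tB * tauB ^ (2 * p.2.val) = tauB ^ (4 * p.2.val) * tB := by
      have : SemiconjBy tB tauB (tauB * tauB) := tB_tauB
      have := this.pow_right (2 * p.2.val)
      rw [← pow_two, ← pow_mul, show 2 * (2 * p.2.val) = 4 * p.2.val by ring] at this
      exact this
    have hcc : Commute (bar (c : Co0)) tauB := bar_tauB_comm c
    calc bar (c : Co0) * tauB ^ (2 * p.2.val) * tB
        = tauB ^ (2 * p.2.val) * bar (c : Co0) * tB := by rw [(hcc.pow_right _).eq]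
      _ = tauB ^ (5 * p.2.val) * bar (c : Co0) * tB := by
          rw [show 5 * p.2.val = 2 * p.2.val + 3 * p.2.val by ring, pow_add, pow_mul tauB 3, tauB_cube, one_pow,
            mul_one]
      _ = tauB ^ p.2.val * (tauB ^ (4 * p.2.val) * bar (c : Co0)) * tB := by
          rw [← mul_assoc, ← pow_add]; congr 3; ring
      _ = tauB ^ p.2.val * (bar (c : Co0) * tauB ^ (4 * p.2.val)) * tB := by rw [(hcc.pow_right _).eq]
      _ = tB * (bar (c : Co0) * tauB ^ (2 * p.2.val)) := by
          rw [← mul_assoc tB, e', mul_assoc _ tB, ht]; simp only [mul_assoc]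
  · show nineHom (c * (⟨tau, tau_mem⟩ : C3) ^ (2 * p.2.val)) = a
    rw [map_mul, map_pow, nine_tau, one_pow, mul_one, hc]

theorem piE_ker : piE.ker ≤ (bar.comp (C3.subtype.comp E3.subtype)).ker := by
  intro c hc
  obtain ⟨p, hp⟩ := ker_cases (c := (c : C3)) hc
  have h := mem_E3.mp c.2
  rw [hp, bar_kerEl] at h
  show bar ((c : C3) : Co0) = 1
  rw [hp, bar_kerEl]
  obtain ⟨⟨i, hi⟩, hi'⟩ : ∃ i : Fin 3, p.2 = i := ⟨_, rfl⟩
  rw [hi'] at h ⊢
  simp only at h ⊢
  interval_cases i
  · exact pow_zero _
  · rw [pow_one] at h; exact absurd h.symm tB_comm_ne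
  · exfalso
    have h2 : tB * (tauB ^ 2) = tauB ^ 4 * tB := by
      have := (show SemiconjBy tB tauB (tauB * tauB) from tB_tauB).pow_right 2
      rw [← pow_two, ← pow_mul] at this
      exact this
    rw [h2, show tauB ^ 4 = tauB by rw [pow_succ, tauB_cube, one_mul], pow_two] at h
    exact tauB_sq_ne (mul_right_cancel h)

/-- The alternating group inside the quotient. -/
def nineEmb : alternatingGroup (Fin 9) →* Spor.Co1 :=
  piE.liftOfSurjective piE_surjective ⟨bar.comp (C3.subtype.comp E3.subtype), piE_ker⟩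

theorem nineEmb_piE (c : E3) : nineEmb (piE c) = bar ((c : C3) : Co0) :=
  piE.liftOfRightInverse_comp_apply (Function.surjInv piE_surjective)
    (Function.rightInverse_surjInv piE_surjective) ⟨bar.comp (C3.subtype.comp E3.subtype), piE_ker⟩ c

theorem nineEmb_tauB (a : alternatingGroup (Fin 9)) : nineEmb a * tauB = tauB * nineEmb a := by
  obtain ⟨c, rfl⟩ := piE_surjective a
  rw [nineEmb_piE]
  exact bar_tauB_comm _

theorem nineEmb_tB (a : alternatingGroup (Fin 9)) : nineEmb a * tB = tB * nineEmb a := by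
  obtain ⟨c, rfl⟩ := piE_surjective a
  rw [nineEmb_piE]
  exact mem_E3.mp c.2

theorem nineEmb_injective : Function.Injective nineEmb := by
  refine (injective_iff_map_eq_one _).mpr fun a ha => ?_
  obtain ⟨c, rfl⟩ := piE_surjective a
  rw [nineEmb_piE] at ha
  show nineHom (c : C3) = 1
  rcases bar_eq_one.mp ha with h | h
  · rw [show (c : C3) = 1 from Subtype.ext h, map_one]
  · rw [show (c : C3) = ⟨negW, negW_mem⟩ from Subtype.ext h, nine_neg]

theorem nineEmb_da : nineEmb (nineHom ⟨daEl, da_mem⟩) = bar daEl :=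
  nineEmb_piE ⟨⟨daEl, da_mem⟩, mem_E3.mpr (by
    show bar daEl * tB = tB * bar daEl
    rw [tB, ← map_mul, ← map_mul, da_t])⟩

theorem nineEmb_db : nineEmb (nineHom ⟨dbEl, db_mem⟩) = bar dbEl :=
  nineEmb_piE ⟨⟨dbEl, db_mem⟩, mem_E3.mpr (by
    show bar dbEl * tB = tB * bar dbEl
    rw [tB, ← map_mul, ← map_mul, db_t])⟩

end CfsgLib.CoOneLocals
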