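import Cfsg.Agent.Lib.CoOneLocals.Nine

/-! The normaliser of the subgroup of order 3 is the product of the symmetric group of degree 3 and
the alternating group of degree 9. -/

set_option autoImplicit false
set_option maxRecDepth 100000
set_option Elab.async false

noncomputable section

namespace CfsgLib.CoOneLocals

open Cfsg CfsgLib.Golay CfsgLib.MonsterType CfsgLib.Sporadic.CoOne CfsgLib.MonsterLocal21

/-- The six permutations in normal form. -/
def p3 (a : Fin 3 × Fin 2) : Equiv.Perm (Fin 3) := finRotate 3 ^ a.1.val * Equiv.swap 0 1 ^ a.2.val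

/-- The normal form of a product. -/
def mul3 (a b : Fin 3 × Fin 2) : Fin 3 × Fin 2 :=
  (if a.2 = 0 then a.1 + b.1 else a.1 + 2 * b.1, a.2 + b.2)

theorem p3_facts : Function.Bijective p3 ∧ ∀ a b, p3 a * p3 b = p3 (mul3 a b) := by
  refine ⟨⟨?_, ?_⟩, ?_⟩
  · unfold Function.Injective; decide +kernel
  · unfold Function.Surjective; decide +kernel
  · decide +kernel

/-- The six elements. -/
def w3 (a : Fin 3 × Fin 2) : Spor.Co1 := tauB ^ a.1.val * tB ^ a.2.val

theorem tauB_pow_mod (n : ℕ) : tauB ^ n = tauB ^ (n % 3) := by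
  conv_lhs => rw [← pow_mod_orderOf, orderOf_tauB]

theorem w3_mul (a b : Fin 3 × Fin 2) : w3 (mul3 a b) = w3 a * w3 b := by
  obtain ⟨i, j⟩ := a
  obtain ⟨k, l⟩ := b
  have h2 : ∀ m : Fin 2, m = 0 ∨ m = 1 := by decide
  have hc : tB * tauB ^ k.val = tauB ^ (2 * k.val) * tB := by
    have := (show SemiconjBy tB tauB (tauB * tauB) from tB_tauB).pow_right k.val
    rw [← pow_two, ← pow_mul] at this
    exact this
  rcases h2 j with rfl | rfl <;> rcases h2 l with rfl | rfl <;>
    simp only [w3, mul3, if_true, if_false, Fin.val_add, Fin.val_mul, Fin.isValue, Fin.val_zero, Fin.val_one,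
      Fin.val_two, Nat.reduceAdd, Nat.reduceMod, pow_zero, pow_one, mul_one, one_ne_zero,
      zero_add, add_zero]
  · rw [← pow_add, ← tauB_pow_mod]
  · rw [← mul_assoc, ← pow_add, ← tauB_pow_mod]
  · rw [mul_assoc, hc, ← mul_assoc, ← pow_add, ← tauB_pow_mod]
    congr 1
    rw [tauB_pow_mod, tauB_pow_mod (_ + _)]
    congr 1
    omega
  · rw [mul_assoc, ← mul_assoc tB, hc, mul_assoc _ tB, tB_sq, mul_one, ← pow_add, tauB_pow_mod,
      tauB_pow_mod (_ + _)]
    congr 1
    omega

/-- The symmetric group of degree 3 inside the quotient. -/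
def triEmb : Equiv.Perm (Fin 3) →* Spor.Co1 :=
  MonoidHom.mk' (fun σ => w3 ((Equiv.ofBijective p3 p3_facts.1).symm σ)) fun σ ρ => by
    rw [← w3_mul]
    congr 1
    apply p3_facts.1.1
    have key := Equiv.ofBijective_apply_symm_apply p3 p3_facts.1
    rw [key, ← p3_facts.2, key, key]

theorem triEmb_mem (σ : Equiv.Perm (Fin 3)) : ∃ a, triEmb σ = w3 a := ⟨_, rfl⟩

theorem triEmb_p3 (a : Fin 3 × Fin 2) : triEmb (p3 a) = w3 a := by
  show w3 _ = _
  rw [Equiv.ofBijective_symm_apply_apply]

theorem nineEmb_commute_w3 (a : alternatingGroup (Fin 9)) (s : Fin 3 × Fin 2) :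
    Commute (w3 s) (nineEmb a) :=
  ((show Commute tauB (nineEmb a) from (nineEmb_tauB a).symm).pow_left _).mul_left
    ((show Commute tB (nineEmb a) from (nineEmb_tB a).symm).pow_left _)

/-- The product inside the quotient. -/
def normHom : Equiv.Perm (Fin 3) × alternatingGroup (Fin 9) →* Spor.Co1 :=
  MonoidHom.noncommCoprod triEmb nineEmb fun σ a => by
    obtain ⟨s, hs⟩ := triEmb_mem σ
    rw [hs]
    exact nineEmb_commute_w3 a s

theorem normHom_apply (p : Equiv.Perm (Fin 3) × alternatingGroup (Fin 9)) :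
    normHom p = triEmb p.1 * nineEmb p.2 := rfl

theorem normHom_injective : Function.Injective normHom := by
  refine (injective_iff_map_eq_one _).mpr ?_
  rintro ⟨σ, a⟩ h
  rw [normHom_apply] at h
  obtain ⟨⟨i, j⟩, rfl⟩ := p3_facts.1.2 σ
  rw [triEmb_p3] at h
  have hw : w3 (i, j) = (nineEmb a)⁻¹ := eq_inv_of_mul_eq_one_left h
  have h1 : Commute (w3 (i, j)) tauB := by
    rw [hw]; exact (show Commute (nineEmb a) tauB from nineEmb_tauB a).inv_left
  have h2 : Commute (w3 (i, j)) tB := by
    rw [hw]; exact (show Commute (nineEmb a) tB from nineEmb_tB a).inv_left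
  have hj : j = 0 := by
    rcases (show ∀ k : Fin 2, k = 0 ∨ k = 1 by decide) j with rfl | rfl
    · rfl
    · exfalso
      simp only [w3, Fin.isValue, Fin.val_one, pow_one] at h1
      refine tB_comm_ne (mul_left_cancel (a := tauB ^ i.val) ?_)
      rw [← mul_assoc, h1.eq, ← mul_assoc, ← mul_assoc, ← (Commute.self_pow tauB i.val).eq]
  subst hj
  simp only [w3, Fin.isValue, Fin.val_zero, pow_zero, mul_one] at h h2 ⊢
  have hi : i = 0 := by
    by_contra hne
    rcases (show ∀ k : Fin 3, k ≠ 0 → k = 1 ∨ k = 2 by decide) i hne with rfl | rfl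
    · rw [Fin.val_one, pow_one] at h2
      exact tB_comm_ne h2.eq.symm
    · rw [Fin.val_two, pow_two] at h2
      refine tauB_ne ?_
      have e : tauB * tauB * tB = tauB * tauB * tauB * tauB * tB := by
        conv_lhs => rw [h2.eq, ← mul_assoc, tB_tauB, mul_assoc (tauB * tauB), tB_tauB]
        simp only [mul_assoc]
      have e1 := mul_right_cancel e
      rw [mul_assoc (tauB * tauB)] at e1
      have e2 : tauB * tauB = 1 := (mul_eq_left.mp e1.symm)
      calc tauB = tauB * (tauB * tauB) := by rw [e2, mul_one]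
        _ = tauB ^ 3 := by simp only [pow_succ, pow_zero, one_mul, mul_assoc]
        _ = 1 := tauB_cube
  subst hi
  rw [Fin.val_zero, pow_zero, one_mul] at h
  have ha : a = 1 := nineEmb_injective (h.trans (map_one _).symm)
  rw [ha]
  simp [p3]

/-- The subgroup of order 3. -/
def triSub : Subgroup Spor.Co1 := Subgroup.zpowers tauB

theorem card_triSub : Nat.card triSub = 3 := (Nat.card_zpowers tauB).trans orderOf_tauB

theorem mem_triSub_iff {u : Spor.Co1} : u ∈ triSub ↔ u = 1 ∨ u = tauB ∨ u = tauB * tauB := by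
  rw [triSub, ← (isOfFinOrder_iff_pow_eq_one.mpr ⟨3, by norm_num, tauB_cube⟩).mem_powers_iff_mem_zpowers,
    Submonoid.mem_powers_iff]
  constructor
  · rintro ⟨n, rfl⟩
    rw [tauB_pow_mod]
    have := Nat.mod_lt n (show 3 > 0 by norm_num)
    generalize n % 3 = m at this ⊢
    interval_cases m <;> simp [pow_two]
  · rintro (rfl | rfl | rfl)
    exacts [⟨0, pow_zero _⟩, ⟨1, pow_one _⟩, ⟨2, pow_two _⟩]

theorem conj_tauB_of_mem {g : Spor.Co1} (hg : g ∈ Subgroup.normalizer (triSub : Set Spor.Co1)) :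
    g * tauB * g⁻¹ = tauB ∨ g * tauB * g⁻¹ = tauB * tauB := by
  refine (mem_triSub_iff.mp ((Subgroup.mem_normalizer_iff.mp hg tauB).mp (Subgroup.mem_zpowers _))).resolve_left ?_
  rw [mul_inv_eq_one, mul_eq_left]
  exact tauB_ne

theorem card_cent_tauB : Nat.card ↥(Subgroup.centralizer ({tauB} : Set Spor.Co1)) ≤ 544320 := by
  have h1 := two_mul_card_centralizer (h := Thompson.tau) (n := 3) (by decide) tau_cube
  have h2 : Nat.card ↥(Subgroup.centralizer ({Thompson.tau} : Set Co0)) ≤ 135 * (16 * 504) := Thompson.card_cent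
  show Nat.card ↥(Subgroup.centralizer ({bar Thompson.tau} : Set Spor.Co1)) ≤ 544320
  omega

theorem card_normalizer_le : Nat.card ↥(Subgroup.normalizer (triSub : Set Spor.Co1)) ≤ 1088640 := by
  classical
  have : Finite Spor.Co1 := by
    have := co0_finite
    exact Quotient.finite _
  set C := Subgroup.centralizer ({tauB} : Set Spor.Co1)
  have key : ∀ g : ↥(Subgroup.normalizer (triSub : Set Spor.Co1)),
      ∃ p : Bool × C, (g : Spor.Co1) = (p.2 : Spor.Co1) * (if p.1 then tB else 1) := by
    intro g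
    rcases conj_tauB_of_mem g.2 with e | e
    · exact ⟨(false, ⟨g, Subgroup.mem_centralizer_singleton_iff.mpr (mul_inv_eq_iff_eq_mul.mp e)⟩), by simp⟩
    · refine ⟨(true, ⟨g * tB, Subgroup.mem_centralizer_singleton_iff.mpr ?_⟩), by simp [mul_assoc, tB_sq]⟩
      have e' : (g : Spor.Co1) * tauB = tauB * tauB * g := mul_inv_eq_iff_eq_mul.mp e
      calc (g : Spor.Co1) * tB * tauB = (g : Spor.Co1) * (tauB * tauB) * tB := by
            rw [mul_assoc, tB_tauB, ← mul_assoc]
        _ = tauB ^ 3 * tauB * g * tB := by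
            rw [← mul_assoc (g : Spor.Co1), e', mul_assoc (tauB * tauB), e']
            simp only [pow_succ, pow_zero, one_mul, mul_assoc]
        _ = tauB * (g * tB) := by rw [tauB_cube, one_mul, mul_assoc]
  choose f hf using key
  refine (Nat.card_le_card_of_injective f fun a b e => Subtype.ext (by rw [hf a, hf b, e])).trans ?_
  rw [Nat.card_prod, show Nat.card Bool = 2 by simp]
  have := card_cent_tauB
  show 2 * Nat.card ↥(Subgroup.centralizer ({tauB} : Set Spor.Co1)) ≤ _
  omega

theorem normHom_mem (p : Equiv.Perm (Fin 3) × alternatingGroup (Fin 9)) :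
    normHom p ∈ Subgroup.normalizer (triSub : Set Spor.Co1) := by
  rw [normHom_apply]
  refine mul_mem ?_ (Subgroup.centralizer_le_normalizer _ ?_)
  · obtain ⟨⟨i, j⟩, hs⟩ := triEmb_mem p.1
    rw [hs]
    refine mul_mem (pow_mem (Subgroup.le_normalizer (Subgroup.mem_zpowers _)) _) (pow_mem ?_ _)
    refine Subgroup.mem_normalizer_iff.mpr fun u => ?_
    have hti : tB⁻¹ = tB := inv_eq_of_mul_eq_one_left tB_sq
    have hfw : ∀ w ∈ triSub, tB * w * tB⁻¹ ∈ triSub := by
      intro w hw
      obtain ⟨n, rfl⟩ := hw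
      show tB * tauB ^ n * tB⁻¹ ∈ triSub
      rw [← conj_zpow, show tB * tauB * tB⁻¹ = tauB * tauB by rw [tB_tauB, mul_inv_cancel_right]]
      exact zpow_mem (mul_mem (Subgroup.mem_zpowers _) (Subgroup.mem_zpowers _)) _
    refine ⟨hfw u, fun h => ?_⟩
    have := hfw _ h
    rw [hti] at this
    simp only [← mul_assoc, tB_sq, one_mul] at this
    rwa [mul_assoc, tB_sq, mul_one] at this
  · refine Subgroup.mem_centralizer_iff.mpr ?_
    rintro _ ⟨n, rfl⟩
    exact ((show Commute tauB (nineEmb p.2) from (nineEmb_tauB p.2).symm).zpow_left n).eq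

theorem exists_nine : ∃ W : Subgroup Spor.Co1, Nat.card W = 3 ∧
    Nonempty (↥(Subgroup.normalizer (W : Set Spor.Co1)) ≃* Equiv.Perm (Fin 3) × alternatingGroup (Fin 9)) := by
  have : Finite Spor.Co1 := by
    have := co0_finite
    exact Quotient.finite _
  refine ⟨triSub, card_triSub, ?_⟩
  set f := normHom.codRestrict _ normHom_mem
  have hinj : Function.Injective f := fun a b e => normHom_injective (congrArg Subtype.val e)
  have hcard : Nat.card (Equiv.Perm (Fin 3) × alternatingGroup (Fin 9)) = 1088640 := by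
    rw [Nat.card_prod, nat_card_alternatingGroup, Nat.card_perm, Nat.card_fin, Nat.card_fin]
    decide +kernel
  have hb : Function.Bijective f := (Nat.bijective_iff_injective_and_card f).mpr
    ⟨hinj, le_antisymm (Nat.card_le_card_of_injective f hinj) (card_normalizer_le.trans hcard.ge)⟩
  exact ⟨(MulEquiv.ofBijective f hb).symm⟩

end CfsgLib.CoOneLocals
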