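import Cfsg.Agent.Lib.Golay.FrameElem
import Cfsg.Agent.Lib.Golay.LeechOrbit.Elem
import Cfsg.Agent.Lib.Sporadic.CoOneInvolution
import Cfsg.Agent.Lib.CoOneLocals.Data

/-! Automorphisms of the lattice given by rows: products, fixed vectors, equalities. -/

set_option autoImplicit false
set_option maxRecDepth 100000

noncomputable section

namespace CfsgLib.CoOneLocals

open Cfsg CfsgLib.Golay CfsgLib.MonsterType CfsgLib.Sporadic.CoOne

/-- The automorphism is given by the rows. -/
structure Rows (g : Co0) (R : List (List ℤ)) : Prop where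
  mem : ∀ i, rowsFrame R i ∈ leechLattice
  act : ∀ u : leechLattice,
    ((g • u : leechLattice) : GolayPt → ℤ) = fun i => dotInt (u : GolayPt → ℤ) (rowsFrame R i) / 8

/-- An entry. -/
def ent (R : List (List ℤ)) (i k : ℕ) : ℤ := (R.getD i []).getD k 0

theorem rowsFrame_apply (R : List (List ℤ)) (i k : GolayPt) :
    rowsFrame R i k = ent R (idx i).val (idx k).val := rfl

/-- An entry of the product of two tables. -/
def entP (R S : List (List ℤ)) (i j : Fin 24) : ℤ :=
  ((List.finRange 24).map fun k : Fin 24 => ent R i.val k.val * ent S k.val j.val).sum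

/-- The products of two pairs of tables agree up to a sign. -/
def prodOK (R S T U : List (List ℤ)) (s : ℤ) : Bool :=
  (List.finRange 24).all fun i => (List.finRange 24).all fun j => decide (entP R S i j = s * entP T U i j)

theorem entP_eq (R S : List (List ℤ)) (i k : GolayPt) :
    entP R S (idx i) (idx k) = ∑ q, rowsFrame R i q * rowsFrame S q k := by
  rw [entP, ← Fin.sum_univ_def, ← LeechOrbit.sum_pt fun q => rowsFrame R i q * rowsFrame S q k]
  refine Finset.sum_congr rfl fun q _ => ?_
  rw [rowsFrame_apply, rowsFrame_apply, idx_pt]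

theorem Rows.eight {g : Co0} {R : List (List ℤ)} (h : Rows g R) (u : leechLattice) (i : GolayPt) :
    8 * ((g • u : leechLattice) : GolayPt → ℤ) i = dotInt (u : GolayPt → ℤ) (rowsFrame R i) := by
  rw [h.act u]
  exact Int.mul_ediv_cancel' (eight_dvd_dot u.2 (h.mem i))

theorem Rows.mul_smul_coe {g h : Co0} {R S : List (List ℤ)} (hg : Rows g R) (hh : Rows h S) (u : leechLattice)
    (i : GolayPt) :
    64 * (((g * h) • u : leechLattice) : GolayPt → ℤ) i =
      ∑ k, (u : GolayPt → ℤ) k * entP R S (idx i) (idx k) := by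
  rw [mul_smul, show (64 : ℤ) = 8 * 8 from rfl, mul_assoc, hg.eight, dotInt, Finset.mul_sum]
  simp only [entP_eq, Finset.mul_sum]
  rw [Finset.sum_comm]
  refine Finset.sum_congr rfl fun q _ => ?_
  rw [← mul_assoc, hh.eight, dotInt, Finset.sum_mul]
  exact Finset.sum_congr rfl fun k _ => by ring

theorem Rows.mul_ext {g h k l : Co0} {R S T U : List (List ℤ)} (hg : Rows g R) (hh : Rows h S) (hk : Rows k T)
    (hl : Rows l U) (hc : prodOK R S T U 1 = true) : g * h = k * l := by
  simp only [prodOK, List.all_eq_true, List.mem_finRange, forall_true_left, decide_eq_true_eq, one_mul] at hc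
  refine ext_latE fun j => Subtype.ext (funext fun i => ?_)
  refine mul_left_cancel₀ (show (64 : ℤ) ≠ 0 by norm_num) ?_
  rw [hg.mul_smul_coe hh, hk.mul_smul_coe hl]
  exact Finset.sum_congr rfl fun k _ => by rw [hc]

/-- The check that the vectors of rows lie in the lattice. -/
def memOK (R : List (List ℤ)) : Bool := (List.finRange 24).all fun i => leechTest (rowsFrame R (pt i))

theorem rows_mem {R : List (List ℤ)} (h : memOK R = true) (i : GolayPt) : rowsFrame R i ∈ leechLattice := by
  simp only [memOK, List.all_eq_true, List.mem_finRange, forall_true_left] at h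
  have := h (idx i)
  rw [pt_idx] at this
  exact mem_of_leechTest this

theorem rows_of_rowsAut {R : List (List ℤ)} (h : frameTest R = true) : Rows (rowsAut h) R :=
  ⟨(isFrame_of_test h).1, coe_rowsAut h⟩

/-- The rows of a permutation. -/
def permOK (σ : Equiv.Perm GolayPt) (R : List (List ℤ)) : Bool :=
  decide (∀ i k : GolayPt, rowsFrame R i k = if k = σ.symm i then 8 else 0)

theorem rows_perm {σ : M24} {R : List (List ℤ)} (h : permOK (σ : Equiv.Perm GolayPt) R = true) :
    Rows (permW σ) R := by
  simp only [permOK, decide_eq_true_eq] at h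
  refine ⟨fun i => ?_, fun u => funext fun i => ?_⟩
  · rw [show rowsFrame R i = LeechEight.vecE ((σ : Equiv.Perm GolayPt).symm i) from funext fun k => h i k]
    exact LeechEight.vecE_mem _
  · rw [permW_apply]
    have e : dotInt (u : GolayPt → ℤ) (rowsFrame R i) =
        (u : GolayPt → ℤ) ((σ : Equiv.Perm GolayPt).symm i) * 8 := by
      simp [dotInt, h]
    rw [e, Int.mul_ediv_cancel _ (by norm_num)]

/-- The rows of the identity. -/
theorem rows_one : Rows 1 rowsOne := by
  have h : permOK ((1 : M24) : Equiv.Perm GolayPt) rowsOne = true := by decide +kernel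
  have := rows_perm h
  rwa [show permW (1 : M24) = 1 from map_one permHom] at this

/-- A product with known rows. -/
theorem Rows.mul {g h : Co0} {R S T : List (List ℤ)} (hg : Rows g R) (hh : Rows h S)
    (hm : memOK T = true) (hc : prodOK R S T rowsOne 1 = true) : Rows (g * h) T := by
  simp only [prodOK, List.all_eq_true, List.mem_finRange, forall_true_left, decide_eq_true_eq, one_mul] at hc
  refine ⟨rows_mem hm, fun u => funext fun i => ?_⟩
  rw [← Int.mul_ediv_cancel_left ((((g * h) • u : leechLattice) : GolayPt → ℤ) i) (show (8 : ℤ) ≠ 0 by norm_num)]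
  congr 1
  refine mul_left_cancel₀ (show (8 : ℤ) ≠ 0 by norm_num) ?_
  rw [← mul_assoc, show (8 : ℤ) * 8 = 64 from rfl, hg.mul_smul_coe hh, dotInt, Finset.mul_sum]
  refine Finset.sum_congr rfl fun k _ => ?_
  rw [hc, entP_eq, Finset.mul_sum]
  have hone : ∀ q k : GolayPt, rowsFrame rowsOne q k = if k = q then 8 else 0 := by decide +kernel
  simp [hone]
  ring

/-- A vector of a list. -/
def vecL (l : List ℤ) : GolayPt → ℤ := rowVec l

/-- The image of a vector. -/
def imgOK (R : List (List ℤ)) (l m : List ℤ) : Bool :=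
  (List.finRange 24).all fun i =>
    decide (((List.finRange 24).map fun k : Fin 24 => l.getD k.val 0 * ent R i.val k.val).sum = 8 * m.getD i.val 0)

theorem Rows.smul_eq {g : Co0} {R : List (List ℤ)} (hg : Rows g R) {u v : leechLattice} {l m : List ℤ}
    (hu : (u : GolayPt → ℤ) = vecL l) (hv : (v : GolayPt → ℤ) = vecL m) (hc : imgOK R l m = true) :
    g • u = v := by
  simp only [imgOK, List.all_eq_true, List.mem_finRange, forall_true_left, decide_eq_true_eq] at hc
  refine Subtype.ext (funext fun i => mul_left_cancel₀ (show (8 : ℤ) ≠ 0 by norm_num) ?_)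
  rw [hg.eight, hv, vecL, rowVec, ← hc (idx i), ← Fin.sum_univ_def, dotInt,
    ← LeechOrbit.sum_pt fun k => (u : GolayPt → ℤ) k * rowsFrame R i k]
  refine Finset.sum_congr rfl fun k _ => ?_
  rw [rowsFrame_apply, hu, vecL, rowVec, idx_pt]

end CfsgLib.CoOneLocals
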